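import Cfsg.Agent.DIM5.Defs2
import Cfsg.Agent.DIM5.NE3a
import Cfsg.Agent.H21.ReeCor
import Cfsg.Agent.H43.Basic

/-!
Characteristic two without transvections: the cases of abelian Sylow subgroups and of two
maximal elementary abelian subgroups.
-/

set_option autoImplicit false
set_option linter.unusedSectionVars false
set_option linter.unusedVariables false
set_option linter.unusedSimpArgs false

open Matrix
open scoped MatrixGroups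

namespace Cfsg.Agent.D5

variable {K : Type*} [Field K] {Γ X : Type*} [Group Γ] [Group X] {ρ : Γ →* M5 K} {π : Γ →* X}

theorem ne3_fix_conj (ρ : Γ →* M5 K) (g z : Γ) (v : V5 K) :
    ρ (g * z * g⁻¹) *ᵥ v = v ↔ ρ z *ᵥ (ρ g⁻¹ *ᵥ v) = ρ g⁻¹ *ᵥ v := by
  rw [map_mul, map_mul, ← mulVec_mulVec, ← mulVec_mulVec]
  refine ⟨fun e => ?_, fun e => by rw [e, mulVec_mulVec, mul_inv_rho, one_mulVec]⟩
  conv_rhs => rw [← e, mulVec_mulVec, inv_mul_rho, one_mulVec]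

variable {S : Sylow 2 Γ} {z : Γ} {A B : Subgroup Γ}

theorem NE.invB (N : NE ρ S z A B) {b : Γ} (hb : b ∈ B) : b⁻¹ = b :=
  inv_eq_of_mul_eq_one_right (N.sqB b hb)

theorem NE.commB (N : NE ρ S z A B) {a b : Γ} (ha : a ∈ B) (hb : b ∈ B) : a * b = b * a := by
  rw [← N.invB (B.mul_mem ha hb), _root_.mul_inv_rev, N.invB ha, N.invB hb]

theorem NE.ti (N : NE ρ S z A B) {g : Γ} (h1 : g * z * g⁻¹ ∈ B) (h2 : g * z * g⁻¹ ∉ A) {u : Γ}
    (hu : u ∈ A) (hg : g * u * g⁻¹ ∈ A) : u = 1 := by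
  by_contra u1
  refine h2 ((N.fix _ (N.leB h1) (mt conj_eq_one_iff.1 N.z1)).2 fun v => ?_)
  rw [ne3_fix_conj, ← (N.fix _ (N.leA hu) u1).1 hu, ← ne3_fix_conj,
    (N.fix _ (N.leA hg) (mt conj_eq_one_iff.1 u1)).1 hg]

theorem NE.adjust [Finite Γ] (N : NE ρ S z A B) {g : Γ} (h1 : g * z * g⁻¹ ∈ B)
    (h2 : g * z * g⁻¹ ∉ A) : ∃ k : Γ, k * z * k⁻¹ ∈ B ∧ k * z * k⁻¹ ∉ A ∧
      ∀ b ∈ B, k * b * k⁻¹ ∈ B := by
  obtain ⟨c, hc, e⟩ := H43.exists_conj_le_sylow_in S (H := Subgroup.centralizer {z})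
    (X := B.map (MulAut.conj g⁻¹).toMonoidHom)
    (fun s hs => Subgroup.mem_centralizer_singleton_iff.2 (N.cen z N.zA N.zB s hs))
    ((S.isPGroup'.to_le N.leB).map _) (by
      rintro _ ⟨b, hb, rfl⟩
      rw [Subgroup.mem_centralizer_singleton_iff]
      have := N.commB hb h1
      change g⁻¹ * b * g⁻¹⁻¹ * z = z * (g⁻¹ * b * g⁻¹⁻¹)
      calc g⁻¹ * b * g⁻¹⁻¹ * z = g⁻¹ * (b * (g * z * g⁻¹)) * g := by group
        _ = _ := by rw [this]; group)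
  have cz : g * c⁻¹ * z * (g * c⁻¹)⁻¹ = g * z * g⁻¹ := by
    have := Subgroup.mem_centralizer_singleton_iff.1 hc
    calc g * c⁻¹ * z * (g * c⁻¹)⁻¹ = g * c⁻¹ * (z * c) * g⁻¹ := by group
      _ = _ := by rw [← this]; group
  rw [← cz] at h1 h2
  refine ⟨g * c⁻¹, h1, h2, ?_⟩
  have e' : ∀ b ∈ B, (g * c⁻¹)⁻¹ * b * (g * c⁻¹) ∈ (S : Subgroup Γ) := fun b hb => by
    have := e _ ⟨b, hb, rfl⟩
    change c * (g⁻¹ * b * g⁻¹⁻¹) * c⁻¹ ∈ _ at this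
    rwa [show (g * c⁻¹)⁻¹ * b * (g * c⁻¹) = c * (g⁻¹ * b * g⁻¹⁻¹) * c⁻¹ by group]
  generalize g * c⁻¹ = k at h1 h2 e' ⊢
  have l := LD.le_or_le (A := A) (B := B) (C := B.map (MulAut.conj k⁻¹).toMonoidHom) (by
    rintro _ ⟨b, hb, rfl⟩
    change k⁻¹ * b * k⁻¹⁻¹ ∈ A ∨ k⁻¹ * b * k⁻¹⁻¹ ∈ B
    rw [inv_inv]
    refine N.inv _ (e' b hb) ?_
    calc k⁻¹ * b * k * (k⁻¹ * b * k) = k⁻¹ * (b * b) * k := by group
      _ = 1 := by rw [N.sqB b hb]; group)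
  rcases l with l | l
  · have a : k⁻¹ * z * k⁻¹⁻¹ ∈ A := l ⟨z, N.zB, rfl⟩
    exact absurd (conj_eq_one_iff.1 (N.ti h1 h2 a (by
      rw [show k * (k⁻¹ * z * k⁻¹⁻¹) * k⁻¹ = z by group]; exact N.zA))) N.z1
  have eq := Subgroup.eq_of_le_of_card_ge l
    (Subgroup.card_map_of_injective (MulAut.conj k⁻¹).injective).ge
  intro b hb
  rw [← eq] at hb
  obtain ⟨b', hb', rfl⟩ := hb
  change k * (k⁻¹ * b' * k⁻¹⁻¹) * k⁻¹ ∈ B
  rwa [show k * (k⁻¹ * b' * k⁻¹⁻¹) * k⁻¹ = b' by group]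

theorem NE.surj [Finite Γ] (N : NE ρ S z A B) {g : Γ} (h1 : g * z * g⁻¹ ∈ B)
    (h2 : g * z * g⁻¹ ∉ A) (h3 : ∀ b ∈ B, g * b * g⁻¹ ∈ B) {h : Γ} (hS : h ∈ (S : Subgroup Γ))
    (hB : h ∉ B) {c : Γ} (cA : c ∈ A) (cB : c ∈ B) : ∃ t ∈ B, h * t * h⁻¹ * t = c := by
  let f : (A ⊓ B : Subgroup Γ) → (A ⊓ B : Subgroup Γ) := fun u =>
    ⟨h * (g * u * g⁻¹) * h⁻¹ * (g * u * g⁻¹), (N.nB _ (h3 _ u.2.2) h hS).2,
      B.mul_mem (N.nB _ (h3 _ u.2.2) h hS).1 (h3 _ u.2.2)⟩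
  have fi : Function.Injective f := by
    rintro ⟨u, uA, uB⟩ ⟨u', uA', uB'⟩ e
    have e : h * (g * u * g⁻¹) * h⁻¹ * (g * u * g⁻¹) = h * (g * u' * g⁻¹) * h⁻¹ * (g * u' * g⁻¹) :=
      congrArg Subtype.val e
    have i1 := N.invB (h3 _ uB)
    have i2 := N.invB (h3 _ uB')
    have w : g * (u' * u) * g⁻¹ ∈ A := by
      by_contra hn
      refine hB (N.cB _ (h3 _ (B.mul_mem uB' uB)) hn h hS ?_)
      rw [show g * (u' * u) * g⁻¹ = (g * u' * g⁻¹) * (g * u * g⁻¹) by group]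
      generalize g * u * g⁻¹ = t at *
      generalize g * u' * g⁻¹ = t' at *
      calc h * (t' * t) = (h * t' * h⁻¹) * (h * t * h⁻¹ * t) * t⁻¹ * h := by group
        _ = h * (t' * t'⁻¹⁻¹) * h⁻¹ * t' * t⁻¹ * h := by rw [e]; group
        _ = _ := by rw [i1, inv_inv]; nth_rewrite 2 [← i2]; group
    have := N.ti h1 h2 (A.mul_mem uA' uA) w
    exact Subtype.ext (by
      change u = u'
      rw [← N.invB uB']; exact (inv_eq_of_mul_eq_one_right this).symm)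
  obtain ⟨u, hu⟩ := Finite.injective_iff_surjective.1 fi ⟨c, cA, cB⟩
  exact ⟨_, h3 _ u.2.2, congrArg Subtype.val hu⟩

theorem NE.prod [Finite Γ] (N : NE ρ S z A B) {g : Γ} (h1 : g * z * g⁻¹ ∈ B)
    (h2 : g * z * g⁻¹ ∉ A) (h3 : ∀ b ∈ B, g * b * g⁻¹ ∈ B) {h : Γ} (hS : h ∈ (S : Subgroup Γ)) :
    ∃ a ∈ A, ∃ b ∈ B, a * b = h := by
  by_cases hB : h ∈ B
  · exact ⟨1, A.one_mem, h, hB, one_mul h⟩
  have hh : h * h ∈ B := by
    generalize g * z * g⁻¹ = y at h1 h2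
    obtain ⟨n1, n2⟩ := N.nB y h1 h hS
    have c := N.cen _ n2 (B.mul_mem n1 h1) h hS
    have s := N.sqA _ n2
    have i := N.invB h1
    refine N.cB y h1 h2 _ ((S : Subgroup Γ).mul_mem hS hS) ?_
    calc h * h * y = h * (h * y * h⁻¹ * y) * y⁻¹ * h := by group
      _ = (h * y * h⁻¹ * y) * (h * y⁻¹ * h⁻¹ * y) * y⁻¹ * (h * h) := by rw [c]; group
      _ = _ := by rw [i, s]; group
  have hA : h * h ∈ A := by
    by_contra hn
    exact hB (N.cB _ hh hn h hS (mul_assoc h h h).symm)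
  obtain ⟨t, ht, e⟩ := N.surj h1 h2 h3 hS hB hA hh
  have sq : h * t * (h * t) = 1 := by
    have c := N.cen _ hA hh t (N.leB ht)
    calc h * t * (h * t) = h * t * h⁻¹ * (h * h * t) := by group
      _ = h * t * h⁻¹ * t * (h * h) := by rw [← c]; group
      _ = 1 := by rw [e, N.sqA _ hA]
  refine ⟨h * t, (N.inv _ ((S : Subgroup Γ).mul_mem hS (N.leB ht)) sq).resolve_right fun k =>
    hB ((mul_mem_cancel_right ht).1 k), t⁻¹, B.inv_mem ht, by group⟩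

theorem NE.card [Finite Γ] (N : NE ρ S z A B) {g : Γ} (h1 : g * z * g⁻¹ ∈ B)
    (h2 : g * z * g⁻¹ ∉ A) (h3 : ∀ b ∈ B, g * b * g⁻¹ ∈ B) :
    Nat.card (S : Subgroup Γ) ≤ A.relIndex S ^ 2 * B.relIndex S := by
  have nz : A.relIndex S ≠ 0 := Subgroup.index_ne_zero_of_finite
  have a1 := Subgroup.relIndex_mul_relIndex ⊥ B S bot_le N.leB
  have a2 := Subgroup.relIndex_mul_relIndex ⊥ (A ⊓ B) B bot_le inf_le_right
  have a3 := Subgroup.relIndex_le_of_le_right (H := A) N.leB nz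
  have a4 := Subgroup.relIndex_le_of_le_right (H := A)
    (K := (A ⊓ B).map (MulAut.conj g).toMonoidHom) (L := S)
    (by rintro _ ⟨u, hu, rfl⟩; exact N.leB (h3 u hu.2)) nz
  have a5 : A ⊓ (A ⊓ B).map (MulAut.conj g).toMonoidHom = ⊥ := eq_bot_iff.2 (by
    rintro _ ⟨hA, u, hu, rfl⟩
    rw [N.ti h1 h2 hu.1 hA, map_one]
    exact Subgroup.one_mem _)
  rw [← Subgroup.inf_relIndex_right, a5, Subgroup.relIndex_bot_left,
    Subgroup.card_map_of_injective (MulAut.conj g).injective] at a4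
  rw [Subgroup.relIndex_bot_left, Subgroup.relIndex_bot_left] at a1 a2
  rw [Subgroup.inf_relIndex_right] at a2
  rw [← a1, ← a2, sq]
  exact Nat.mul_le_mul_right _ (Nat.mul_le_mul a4 a3)

theorem NE.tw [Finite Γ] (N : NE ρ S z A B) {g : Γ} (h1 : g * z * g⁻¹ ∈ B)
    (h2 : g * z * g⁻¹ ∉ A) (hS : ¬ (S : Subgroup Γ) ≤ B) : TW (S : Subgroup Γ) := by
  obtain ⟨k, k1, k2, k3⟩ := N.adjust h1 h2
  refine ⟨A.subgroupOf S, B.subgroupOf S, fun x => ⟨fun e => N.inv x x.2 (congrArg Subtype.val e),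
    fun e => Subtype.ext (e.elim (N.sqA _) (N.sqB _))⟩, fun s => ?_, fun l => hS fun s hs => ?_,
    fun l => k2 (l (show (⟨_, N.leB k1⟩ : (S : Subgroup Γ)) ∈ B.subgroupOf S from k1)),
    N.card k1 k2 k3⟩
  · obtain ⟨a, ha, b, hb, e⟩ := N.prod k1 k2 k3 s.2
    exact ⟨⟨a, N.leA ha⟩, ha, ⟨b, N.leB hb⟩, hb, Subtype.ext e⟩
  · obtain ⟨a, ha, b, hb, rfl⟩ := N.prod k1 k2 k3 hs
    exact B.mul_mem (l (show (⟨_, N.leA ha⟩ : (S : Subgroup Γ)) ∈ A.subgroupOf S from ha)) hb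

theorem NE.rest [Finite Γ] {S : Sylow 2 Γ} {z : Γ} {A B : Subgroup Γ} (N : NE ρ S z A B)
    (h : Hyp ρ π) {g : Γ} (h1 : g * z * g⁻¹ ∈ B) (h2 : g * z * g⁻¹ ∉ A) : LstE X := by
  have := h.simple
  have := h.finiteX
  by_cases hS : (S : Subgroup Γ) ≤ B
  · have ab : H21.Ab2 X := (H21.Ab2.of_sylow S
      ⟨⟨fun a b => Subtype.ext (N.commB (hS a.2) (hS b.2))⟩⟩).of_surjective π h.surj
    rcases H21W.walter_full h.nonab ab with ⟨F, i1, i2, n, -, -, e⟩ | ⟨F, i1, i2, -, -, e⟩ | e | e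
    · exact Or.inl ⟨_, F, i1, i2, rfl, e⟩
    · exact Or.inl ⟨_, F, i1, i2, rfl, e⟩
    · exact Or.inr (Or.inr (Or.inr (Or.inr (Or.inr (Or.inl e)))))
    · exact Or.inr (Or.inr (Or.inr (Or.inr (Or.inr (Or.inr e)))))
  have bj : Function.Bijective (π.subgroupMap (S : Subgroup Γ)) := by
    refine ⟨(injective_iff_map_eq_one _).2 fun a ha => ?_, π.subgroupMap_surjective _⟩
    obtain ⟨j, hj⟩ := S.isPGroup' a
    exact Subtype.ext (h.ker_eq_one (n := 2 ^ j) (congrArg Subtype.val ha)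
      (Nat.Coprime.pow_left j (by norm_num)) (congrArg Subtype.val hj))
  exact TW.lst h.nonab (S.mapSurjective h.surj)
    ((N.tw h1 h2 hS).of_equiv (MulEquiv.ofBijective _ bj).symm)

end Cfsg.Agent.D5
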