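import Cfsg.Agent.DIM5.RSym
import Cfsg.Agent.DIM5.RBig2
import Cfsg.Agent.DIM5.R4b
import Cfsg.Agent.DIM5.RP3
import Cfsg.Agent.DIM5.R3odd
import Cfsg.Agent.DIM5.R3ev

/-!
The theorem on reflection groups in dimension five.
-/

set_option autoImplicit false

open Matrix

namespace Cfsg.Agent.D5

variable {K : Type*} [Field K] {Γ : Type*} [Group Γ] {ρ : Γ →* M5 K}
variable [IsAlgClosed K] [Finite Γ]

theorem RH.cases (r : RH ρ) : IsO ρ ∨ IsG33 ρ ∨ IsU52 ρ := by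
  by_cases n : ∀ v f w g u h, D ρ v f → D ρ w g → D ρ u h → ¬ NS v f w g u h
  · exact Or.inl (r.sym n)
  push Not at n
  have L := r.lam
  by_cases L1 : Lam1 ρ
  · obtain ⟨v, f, w, g, u, h, a, b, c, n⟩ := n
    obtain ⟨h3, e, x, ω, hω, F⟩ := fr3 L1 a b c n
    by_cases h2 : (2 : K) = 0
    · exact Or.inr (Or.inr (r.u52 L1 h2 hω F))
    · exact Or.inr (Or.inl (r.g33 L1 h2 h3 hω F))
  exfalso
  simp only [Lam1, not_forall] at L1
  obtain ⟨v, f, w, g, u, h, a, b, c, n, l⟩ := L1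
  have l2 := (L _ _ _ _ _ _ a b c n).resolve_left l
  have h2 : (2 : K) ≠ 0 := l2 ▸ mul_ne_zero (n.ne r.toTame a b).1 (n.ne r.toTame a b).2
  obtain ⟨e, x, P, n⟩ := exists_pl h2 a b n l2
  refine r.not_p3 L (fun e x v f P a n h => ?_) P c n
  obtain ⟨e, x, i, hi, F⟩ := r.fr4_of L P a n h
  exact r.not_four L h2 hi F

end Cfsg.Agent.D5
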