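import Cfsg.Agent.DIM5.TThree
import Cfsg.Agent.DIM5.SUgen
import Cfsg.Agent.H10.P3U2

/-!
Groups of transvections with a symmetric orthogonality relation: `SU₅(q)`.
-/

set_option autoImplicit false

open Matrix
open scoped MatrixGroups

namespace Cfsg.Agent.D5

open H10

section
variable {F : Type*} [Field F] [Fintype F] {q : ℕ} [hF : Fact (Fintype.card F = q ^ 2)]

theorem herm_factor5 {G : M5 F} (hG : (G.map (cj F q))ᵀ = G) (hd : G.det ≠ 0) :
    ∃ P : (M5 F)ˣ, G = (P.val.map (cj F q))ᵀ * P.val := by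
  have hne : cj F q ≠ RingHom.id F := fun h => by
    obtain ⟨a, ha⟩ := exists_cj_ne F q
    exact ha (by rw [h]; rfl)
  let B : V5 F →ₛₗ[cj F q] V5 F →ₗ[F] F := toLinearMapₛₗ₂' F (cj F q) (RingHom.id F) G
  have hB : ∀ x y, B x y = ∑ i, ∑ j, cj F q (x i) * y j * G i j := fun x y => by
    simp [B, toLinearMapₛₗ₂'_apply, mul_assoc]
  have hG' : ∀ i j, cj F q (G i j) = G j i := fun i j => congrFun (congrFun hG j) i
  obtain ⟨b, hb⟩ := H27.herm_exists_orthonormal_basis (B := B) hne cj_cj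
    ⟨fun x y => by
      rw [hB, hB, Finset.sum_comm]
      simp only [map_sum, map_mul, cj_cj, hG']
      exact Finset.sum_congr rfl fun i _ => Finset.sum_congr rfl fun j _ => by ring⟩
    (fun x hx => by
      have : (fun i => cj F q (x i)) ᵥ* G = 0 := funext fun j => by
        simpa [hB, Pi.single_apply, vecMul, dotProduct] using hx (Pi.single j 1)
      exact funext fun i => cj_eq_zero.1 (congrFun (eq_zero_of_vecMul_eq_zero hd this) i))
    (ι := Fin 5) (by simp)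
  let C : M5 F := of fun i j => b j i
  have hC : (C.map (cj F q))ᵀ * G * C = 1 := by
    ext i j
    rw [one_apply, ← hb, hB]
    simp only [C, Matrix.mul_apply, transpose_apply, map_apply, of_apply, Finset.sum_mul]
    rw [Finset.sum_comm]
    exact Finset.sum_congr rfl fun i _ => Finset.sum_congr rfl fun j _ => by ring
  let U : (M5 F)ˣ := ⟨_, C, hC, mul_eq_one_comm.1 hC⟩
  refine ⟨U, ?_⟩
  have e : (U.val.map (cj F q))ᵀ * (C.map (cj F q))ᵀ = 1 := by
    rw [← transpose_mul, ← Matrix.map_mul, show C * U.val = 1 from U.inv_val]; simp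
  change G = _ * ((C.map (cj F q))ᵀ * G)
  rw [← mul_assoc, e, one_mul]

theorem ut_conj5 {M : M5 F} {d : F} (hd : d ≠ 0) {P : (M5 F)ˣ}
    (h : d • M = (P.val.map (cj F q))ᵀ * P.val) (z : V5 F) (a : F) :
    P.val * (1 + vecMulVec z (a • (fun i => cj F q (z i)) ᵥ* M)) * P⁻¹.val =
      unitaryTransvection 5 q (P.val *ᵥ z) (a / d) := by
  have e : M * P⁻¹.val = d⁻¹ • (P.val.map (cj F q))ᵀ := by
    rw [← inv_smul_smul₀ hd M, h, smul_mul_assoc, mul_assoc, Units.mul_inv, mul_one]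
  rw [vecMulVec_smul, mul_add, add_mul, mul_one, Units.mul_inv, mul_smul_comm, smul_mul_assoc,
    mul_vecMulVec, vecMulVec_mul, vecMul_vecMul, e, vecMul_smul, vecMulVec_smul, smul_smul,
    unitaryTransvection, div_eq_mul_inv, vecMul_transpose]
  congr 3
  ext i
  exact (RingHom.map_mulVec (cj F q) P.val z i).symm

theorem herm_conj5 {M : M5 F} {d : F} {P : (M5 F)ˣ}
    (h : d • M = (P.val.map (cj F q))ᵀ * P.val) (y z : V5 F) :
    hermForm 5 F q (P.val *ᵥ y) (P.val *ᵥ z) = d * ((fun i => cj F q (z i)) ᵥ* M) ⬝ᵥ y := by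
  have e : (fun i => cj F q ((P.val *ᵥ z) i)) = P.val.map (cj F q) *ᵥ fun i => cj F q (z i) :=
    funext fun i => RingHom.map_mulVec (cj F q) P.val z i
  rw [herm_eq_dot, dotProduct_comm, e, ← vecMul_transpose, dotProduct_mulVec, vecMul_vecMul, ← h,
    vecMul_smul, smul_dotProduct, smul_eq_mul]

end

variable {K : Type*} [Field K] {Γ X : Type*} [Group Γ] [Group X] {ρ : Γ →* M5 K} {π : Γ →* X}
variable {u v w f g h φ ψ χ : V5 K}

theorem Hyp.su_of_sym [Finite K] (h : Hyp ρ π) (tt : TrTop ρ) (hv : Fl ρ v φ) {K0 : Subfield K}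
    (hR : Rt ρ K0) (hK : 2 < Nat.card K0) (nm : ∀ v, ¬ Multi ρ v)
    (hl : ∀ v φ w ψ, T ρ v φ → T ρ w ψ → (φ ⬝ᵥ w) * (ψ ⬝ᵥ v) ∈ K0) : IsSU ρ := by
  obtain ⟨σ, hσ⟩ := P3.exists_frob K0
  have hf := fun x => P3.mem_iff_frob hσ (x := x)
  have nb : ∀ x χ, Nb ρ v φ x χ → Fl ρ x χ := fun x χ ⟨a, b, c, c0, t⟩ => by
    have e := hl _ _ _ _ hv.1 t
    have f : Fl ρ x (c • χ) := Fl.of_dot (ψ := φ) (w := v) t (by simp [a]) (by simp [b, c0])
    have := (hR _ _ f c⁻¹).2 (K0.inv_mem (by simpa [a, b] using e))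
    rw [inv_smul_smul₀ c0] at this
    exact ⟨this, f.2.1, by rintro rfl; simp at b⟩
  have skew : ∀ x χ x' χ', Nb ρ v φ x χ → Nb ρ v φ x' χ' → σ (χ ⬝ᵥ x') = -(χ' ⬝ᵥ x) :=
    fun x χ x' χ' n n' => by
    have key : ∀ a ∈ K0, Fl ρ (x + a • v) (χ + a • φ) := fun a ha => by
      simpa [n.1, n.2.1] using Fl.act ((hR _ _ hv a).2 ha) (nb _ _ n)
    by_cases hm : χ ⬝ᵥ x' ∈ K0
    · have := zero_of_not_multi nm (key _ (K0.neg_mem hm)) (nb _ _ n') (by simp [n'.1])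
      rw [dotProduct_add, dotProduct_smul, n'.2.1, smul_eq_mul] at this
      rw [(hf _).1 hm]
      linear_combination this
    have a := (hf _).1 (hl _ _ _ _ (nb _ _ n).1 (nb _ _ n').1)
    have s := (hf _).1 (hl _ _ _ _ (key 1 K0.one_mem).1 (nb _ _ n').1)
    simp only [one_smul, add_dotProduct, dotProduct_add, n'.1, n'.2.1, map_mul, map_add, map_one,
      map_neg] at a s
    have : (σ (χ ⬝ᵥ x') - χ ⬝ᵥ x') * (σ (χ ⬝ᵥ x') + χ' ⬝ᵥ x) = 0 := by
      linear_combination (σ (χ ⬝ᵥ x') + 1) * a - σ (χ ⬝ᵥ x') * s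
    rw [hf] at hm
    linear_combination (mul_eq_zero.1 this).resolve_left (sub_ne_zero.2 hm)
  have sk2 : ∀ x χ x' χ', Nb ρ v φ x χ → Nb ρ v φ x' χ' → σ (σ (χ ⬝ᵥ x')) = χ ⬝ᵥ x' :=
    fun x χ x' χ' n n' => by rw [skew _ _ _ _ n n', map_neg, skew _ _ _ _ n' n, neg_neg]
  have f2 : ∀ c ∈ K0, σ (σ c) = c := fun c hc => by rw [(hf _).1 hc, (hf _).1 hc]
  have top := tt ((σ.comp σ).eqLocusField (RingHom.id K)) (h.nb_trace hv _
    (fun c t => f2 c ((hR _ _ hv c).1 t)) (fun x χ c n t => f2 c ((hR _ _ (nb _ _ n) c).1 t)) sk2)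
  obtain ⟨m, hm, hm2⟩ : ∃ m, m ∉ K0 ∧ σ (σ m) = m := by
    by_contra hc
    push Not at hc
    refine alt_family_false (ι := {p : V5 K × V5 K // Nb ρ v φ p.1 p.2}) (fun p => p.1.1)
      (fun p => p.1.2) (fun η e => (h.nb_span hv).1 η fun x χ n => e ⟨(x, χ), n⟩)
      (fun η e => (h.nb_span hv).2 η fun x χ n => e ⟨(x, χ), n⟩) (fun p p' => ?_)
      fun p => (nb _ _ p.2).1.1
    rw [← skew _ _ _ _ p.2 p'.2, (hf _).1 (by_contra fun e => hc _ e (sk2 _ _ _ _ p.2 p'.2))]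
  have hc := P3.card_quad hσ hm hm2
  rw [top, Nat.card_congr (Subfield.topEquiv (K := K)).toEquiv] at hc
  generalize Nat.card K0 = q at hσ hc hK
  have := Fintype.ofFinite K
  have : Fact (Fintype.card K = q ^ 2) := ⟨by rw [← hc, Nat.card_eq_fintype_card]⟩
  obtain rfl : σ = cj K q := RingHom.ext hσ
  let N : V5 K → V5 K → Prop := fun x χ => Nb ρ v φ x χ ∨ (x = v ∧ χ = φ)
  have nf : ∀ x χ, N x χ → Fl ρ x χ := by
    rintro x χ (n | ⟨rfl, rfl⟩)
    exacts [nb _ _ n, hv]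
  have sk : ∀ x χ x' χ', N x χ → N x' χ' → χ ⬝ᵥ x' = -1 * cj K q (χ' ⬝ᵥ x) := by
    rintro x χ x' χ' (n | ⟨rfl, rfl⟩) (n' | ⟨e1, e2⟩)
    · rw [skew _ _ _ _ n' n]; ring
    · simp [e1, e2, n.1, n.2.1]
    · simp [n'.1, n'.2.1]
    · simp [e1, e2, hv.1.1]
  have sp := (h.nb_span hv).1
  obtain ⟨S, hS⟩ := exists_theta (cj K q) (-1) (ι := {p : V5 K × V5 K // N p.1 p.2})
    (fun p => p.1.1) (fun p => p.1.2) (fun η e => sp η fun x χ n => e ⟨(x, χ), Or.inl n⟩)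
    fun p p' => sk _ _ _ _ p.2 p'.2
  replace hS : ∀ x χ, N x χ → (fun k => cj K q (x k)) ᵥ* S = χ := fun x χ n => (hS ⟨(x, χ), n⟩).symm
  have hS2 : (S.map (cj K q))ᵀ = -S := by
    have a1 : ∀ x χ, N x χ → S.map (cj K q) *ᵥ (fun k => cj K q (x k)) = -χ := fun x χ n => by
      refine eq_neg_of_add_eq_zero_left (sp _ fun y η n' => ?_)
      have e := sk _ _ _ _ n (Or.inl n')
      rw [← hS _ _ (Or.inl n'), ← dotProduct_mulVec, RingHom.map_dotProduct] at e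
      rw [add_dotProduct, e, dotProduct_comm]
      have e1 : (cj K q ∘ fun k => cj K q (y k)) = y := funext fun k => cj_cj _
      have e2 : cj K q ∘ (S *ᵥ x) = S.map (cj K q) *ᵥ fun k => cj K q (x k) :=
        funext fun k => RingHom.map_mulVec (cj K q) S x k
      rw [e1, e2]; ring
    ext i j
    have := sp (fun k => cj K q (cj K q (S j k) + S k j)) fun x χ n => by
      have e := congrFun ((a1 _ _ (Or.inl n)).trans (congrArg Neg.neg (hS _ _ (Or.inl n)).symm)) j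
      apply cj_injective (F := K) (q := q)
      simp only [mulVec, vecMul, dotProduct, map_apply, Pi.neg_apply] at e
      simp only [dotProduct, map_sum, map_mul, cj_cj, map_zero, add_mul, Finset.sum_add_distrib, e]
      simp [mul_comm]
    exact eq_neg_of_add_eq_zero_left (cj_eq_zero.1 (congrFun this i))
  have hd : m - cj K q m ≠ 0 := fun e => hm ((hf _).2 (sub_eq_zero.1 e).symm)
  obtain ⟨P, hP⟩ := herm_factor5 (q := q) (G := (m - cj K q m) • S) (by
      rw [show ((m - cj K q m) • S).map (cj K q) = (cj K q m - m) • S.map (cj K q) by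
        ext; simp [cj_cj], transpose_smul, hS2]
      module)
    (by
      rw [det_smul]
      refine mul_ne_zero (pow_ne_zero _ hd) fun e => ?_
      obtain ⟨y, y0, hy⟩ := exists_mulVec_eq_zero_iff.2 e
      exact y0 ((h.nb_span hv).2 y fun x χ n => by
        rw [← hS _ _ (Or.inl n), ← dotProduct_mulVec, hy, dotProduct_zero]))
  have skw : ∀ a : K, a ∈ K0 ↔ cj K q (a / (m - cj K q m)) = -(a / (m - cj K q m)) := fun a => by
    rw [hf, map_div₀, map_sub, cj_cj, ← neg_sub m, div_neg, neg_inj, div_left_inj' hd]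
  generalize m - cj K q m = d at hd hP skw
  have key : ∀ (g : Γ) x χ (c : K), N x χ → ρ g = 1 + vecMulVec x (c • χ) →
      D5.cnj ρ P⁻¹ g = unitaryTransvection 5 q (P.val *ᵥ x) (c / d) := fun g x χ c n e => by
    rw [cnj_apply, inv_inv, e, ← hS _ _ n, ut_conj5 hd hP]
  have hh : ∀ y x χ, N x χ → hermForm 5 K q (P.val *ᵥ y) (P.val *ᵥ x) = d * χ ⬝ᵥ y :=
    fun y x χ n => by rw [herm_conj5 hP, hS _ _ n]
  have iso : ∀ x χ, N x χ → hermForm 5 K q (P.val *ᵥ x) (P.val *ᵥ x) = 0 := fun x χ n => by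
    rw [hh _ _ _ n, (nf _ _ n).1.1, mul_zero]
  let H : Subgroup Γ :=
    { carrier := {g | ∃ a : SU 5 K q, D5.cnj ρ P⁻¹ g = sm a}
      one_mem' := ⟨1, map_one _⟩
      mul_mem' := by
        rintro a b ⟨g, hg⟩ ⟨k, hk⟩
        exact ⟨g * k, by rw [map_mul, hg, hk, sm_mul]⟩
      inv_mem' := by
        rintro a ⟨g, hg⟩
        exact ⟨g⁻¹, rho_inv_eq (by rw [hg, sm_mul_inv])⟩ }
  have mH : ∀ (g : Γ) x χ (c : K), N x χ → ρ g = 1 + vecMulVec x (c • χ) → g ∈ H :=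
    fun g x χ c n e => ⟨utSU (iso _ _ n) ((skw c).1 ((hR _ _ (nf _ _ n) c).1
      ⟨by simp [(nf _ _ n).1.1], g, e⟩)), key _ _ _ _ n e⟩
  let Y : Subgroup (SU 5 K q) :=
    { carrier := {a | ∃ g, D5.cnj ρ P⁻¹ g = sm a}
      one_mem' := ⟨1, map_one _⟩
      mul_mem' := by
        rintro a b ⟨g, hg⟩ ⟨k, hk⟩
        exact ⟨g * k, by rw [map_mul, hg, hk, sm_mul]⟩
      inv_mem' := by
        rintro a ⟨g, hg⟩
        exact ⟨g⁻¹, rho_inv_eq (by rw [hg, sm_mul_inv])⟩ }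
  have cen : ∀ x χ, N x χ → Cen5 Y (P.val *ᵥ x) := fun x χ n => by
    refine ⟨fun e => (nf _ _ n).2.1 (units_mulVec_inj P (by simpa using e)), iso _ _ n,
      fun c hc => ⟨utSU (iso _ _ n) hc, ?_, rfl⟩⟩
    obtain ⟨-, g, hg⟩ := (hR _ _ (nf _ _ n) _).2 ((skw (c * d)).2 (by
      rwa [mul_div_cancel_right₀ _ hd]))
    exact ⟨g, by rw [key _ _ _ _ n hg, mul_div_cancel_right₀ _ hd, sm_utSU]⟩
  have hY : Y = ⊤ := su5_top (by omega) Y (cen _ _ (Or.inr ⟨rfl, rfl⟩)) fun y hy =>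
    units_mulVec_inj P⁻¹ (by
      rw [mulVec_zero]
      refine (h.nb_span hv).2 _ fun x χ n => mul_left_cancel₀ hd ?_
      rw [← hh _ _ _ (Or.inl n), mulVec_mulVec, Units.mul_inv, one_mulVec, mul_zero,
        herm_eq_zero_comm]
      exact hy _ (cen _ _ (Or.inl n)) (by rw [hh _ _ _ (Or.inl n), n.2.1]; simpa using hd))
  refine ⟨q, hc, fun g => ?_, ?_⟩
  · obtain ⟨a, ha⟩ := h.nb_gen hv H (fun g c e => mH g _ _ c (Or.inr ⟨rfl, rfl⟩) e)
      (fun g x χ c n _ e => mH g _ _ c (Or.inl n) e) g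
    have e := congrArg transpose ((isIsom_iff _).1 (sm_isIsom a))
    rw [transpose_mul, transpose_transpose, transpose_one] at e
    rw [← trace_cnj P⁻¹, ← trace_cnj P⁻¹ g, rho_inv_eq (ha ▸ mul_eq_one_comm.1 e), ha,
      trace_transpose, ← cj_apply, AddMonoidHom.map_trace]
  · have := h.finite
    choose k hk using fun a : SU 5 K q => (hY ▸ Subgroup.mem_top a : a ∈ Y)
    rw [card_SUG]
    exact Nat.card_le_card_of_injective k fun a b e => sm_injective (by rw [← hk, ← hk, e])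

end Cfsg.Agent.D5
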