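import Cfsg.Agent.DIM5.TSL
import Cfsg.Agent.DIM5.TNA
import Cfsg.Agent.DIM5.TU

/-!
The theorem on groups containing transvections.
-/

set_option autoImplicit false

open Matrix

namespace Cfsg.Agent.D5

variable {K : Type*} [Field K] {Γ X : Type*} [Group Γ] [Group X] {ρ : Γ →* M5 K} {π : Γ →* X}
variable {v φ : V5 K}

theorem TrTop.dual (t : TrTop ρ) : TrTop (dual ρ) := fun K0 h => t K0 fun g => by
  simpa [trace_dual] using h g⁻¹

theorem IsSL.of_dual (s : IsSL (dual ρ)) : IsSL ρ := fun M hM => by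
  obtain ⟨g, hg⟩ := s Mᵀ (by rwa [det_transpose])
  exact ⟨g⁻¹, transpose_injective hg⟩

theorem Rt.dual {K0 : Subfield K} (r : Rt ρ K0) : Rt (dual ρ) K0 := fun v φ h a => by
  rw [T.dual_iff, T.smul_iff, r φ v (Fl.dual_iff.1 h) a]

theorem Hyp.sl_of_multi [Finite K] (h : Hyp ρ π) (tt : TrTop ρ) (m : Multi ρ v) : IsSL ρ := by
  obtain ⟨φ, ψ, h1, -, h2, -⟩ := m.2
  obtain ⟨K0, R, ⟨e, s⟩ | ⟨-, s⟩⟩ := h.exists_rt ⟨h1, m.1, h2⟩
  · by_cases A : AdjA ρ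
    · exact h.sl_of_adj tt R m A
    obtain ⟨⟨χ, m'⟩, A'⟩ := h.na_dual e (fun v φ a p t => s a ((R v φ p a).1 t)) A
    exact (h.dual.sl_of_adj tt.dual R.dual m' A').of_dual
  · exact h.sl_of_adj tt R m (adj_of (fun v φ w ψ a b c d => (s v φ w ψ a b c d).imp_right
      And.left) R)

theorem ctr_of (h2 : (2 : K) = 0) {K0 : Subfield K} (R : Rt ρ K0) (s : ∀ a ∈ K0, a = 0 ∨ a = 1)
    (nm : ∀ v, ¬ Multi ρ v) {v f g : V5 K} (a : D ρ v f) (b : D ρ v g) : f = g := by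
  rw [D_iff_fl h2] at a b
  obtain ⟨c, rfl⟩ : ∃ c : K, g = c • f := by
    by_contra e
    exact nm v ⟨a.2.1, f, g, a.1, b.1, a.2.2, fun c e' => e ⟨c, e'⟩⟩
  rcases s c ((R v f a c).1 b.1) with rfl | rfl
  · exact (b.2.2 (zero_smul _ _)).elim
  · rw [one_smul]

theorem Hyp.tcases [Finite K] (h : Hyp ρ π) (tt : TrTop ρ) (hv : Fl ρ v φ) :
    IsSL ρ ∨ IsSU ρ ∨ ((2 : K) = 0 ∧ Tame ρ) := by
  by_cases nm : ∃ v, Multi ρ v
  · exact Or.inl (h.sl_of_multi tt nm.choose_spec)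
  by_cases nm' : ∃ v, Multi (D5.dual ρ) v
  · exact Or.inl (h.dual.sl_of_multi tt.dual nm'.choose_spec).of_dual
  push Not at nm nm'
  obtain ⟨K0, R, ⟨e, s⟩ | ⟨c, s⟩⟩ := h.exists_rt hv
  · exact Or.inr (Or.inr ⟨e, fun a b => zero_of_not_multi nm ((D_iff_fl e).1 a) ((D_iff_fl e).1 b),
      ctr_of e R s nm, fun a b => ctr_of e R.dual s nm' (D.dual_iff.2 a) (D.dual_iff.2 b),
      fun n => (n e).elim⟩)
  refine Or.inr (Or.inl (h.su_of_sym tt hv R c nm fun v φ w ψ a b => ?_))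
  by_cases h1 : φ ⬝ᵥ w = 0
  · simp [h1]
  by_cases h2 : ψ ⬝ᵥ v = 0
  · simp [h2]
  refine (s v φ w ψ a b h1 h2).resolve_right fun ⟨h3, k, e⟩ => h.not_exc h3 nm
    (fun v φ w ψ a b h1 h2 => ?_) a b e
  rcases s v φ w ψ a b h1 h2 with t | ⟨-, -, t⟩
  · rcases k _ t with t | t | t
    · exact (mul_ne_zero h1 h2 t).elim
    · rw [t, one_pow]
    · rw [t]; norm_num
  · rw [show 4 = 2 * 2 from rfl, pow_mul, t]; norm_num

end Cfsg.Agent.D5
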