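import Cfsg.Agent.DIM5.Defs2
import Cfsg.Agent.H10.P3Eig

/-!
Imprimitive reflection groups in dimension three.
-/

set_option autoImplicit false

open Matrix

namespace Cfsg.Agent.D5

open H10.P3 (M3 V3)

section
variable {K : Type*} [Field K] {Λ : Type*} [Group Λ] {τ : Λ →* M3 K} {v f w g : V3 K}

theorem refl_sq3 (h : f ⬝ᵥ v = 2) : (1 - vecMulVec v f) * (1 - vecMulVec v f) = 1 := by
  rw [mul_sub, sub_mul, sub_mul, H10.P3.vv_mul, h, two_smul]; simp

theorem tau_inv3 {k : Λ} (h : f ⬝ᵥ v = 2) (e : τ k = 1 - vecMulVec v f) : τ k⁻¹ = τ k := by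
  rw [← mul_one (τ k⁻¹), ← refl_sq3 h, ← e, ← mul_assoc, H10.P3.inv_mul_rho, one_mul]

theorem D3.conj (h : D3 τ v f) (k : Λ) : D3 τ (τ k *ᵥ v) (f ᵥ* τ k⁻¹) := by
  obtain ⟨h0, h1, h2, g, hg⟩ := h
  refine ⟨?_, H10.P3.rho_mulVec_ne τ k h1, H10.P3.vecMul_rho_ne τ _ h2, k * g * k⁻¹, ?_⟩
  · rw [← dotProduct_mulVec, mulVec_mulVec, H10.P3.inv_mul_rho, one_mulVec, h0]
  · rw [map_mul, map_mul, hg, mul_sub, sub_mul, mul_one, H10.P3.mul_inv_rho, mul_vecMulVec,
      vecMulVec_mul]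

theorem D3.act (h : D3 τ v f) (h' : D3 τ w g) :
    D3 τ (w - (f ⬝ᵥ w) • v) (g - (g ⬝ᵥ v) • f) := by
  obtain ⟨h0, -, -, k, hk⟩ := h
  have := h'.conj k
  rwa [tau_inv3 h0 hk, hk, sub_mulVec, one_mulVec, H10.P3.vv_mulVec, vecMul_sub, vecMul_one,
    H10.P3.vecMul_vv] at this

theorem D3.smul (h : D3 τ v f) {c : K} (hc : c ≠ 0) : D3 τ (c • v) (c⁻¹ • f) := by
  obtain ⟨h0, h1, h2, g, hg⟩ := h
  refine ⟨by simp [h0, hc], smul_ne_zero hc h1, smul_ne_zero (inv_ne_zero hc) h2, g, ?_⟩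
  rw [hg, smul_vecMulVec, vecMulVec_smul, smul_inv_smul₀ hc]

theorem R3.tirr (r : R3 τ) (W : Submodule K (V3 K))
    (hW : ∀ v f, D3 τ v f → ∀ y ∈ W, y - (f ⬝ᵥ y) • v ∈ W) : W = ⊥ ∨ W = ⊤ := by
  let H : Subgroup Λ :=
    { carrier := {k | ∀ y ∈ W, τ k *ᵥ y ∈ W ∧ τ k⁻¹ *ᵥ y ∈ W}
      one_mem' := fun y hy => by simpa using hy
      mul_mem' := fun {a b} ha hb y hy => by
        rw [_root_.mul_inv_rev, map_mul, map_mul, ← mulVec_mulVec, ← mulVec_mulVec]
        exact ⟨(ha _ (hb y hy).1).1, (hb _ (ha y hy).2).2⟩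
      inv_mem' := fun {a} ha y hy => by
        rw [inv_inv]
        exact (ha y hy).symm }
  have := r.gen H fun k v f a b c e y hy => by
    rw [tau_inv3 a e, e, sub_mulVec, one_mulVec, H10.P3.vv_mulVec, and_self]
    exact hW v f ⟨a, b, c, k, e⟩ y hy
  exact r.irr W fun k y hy => ((this ▸ Subgroup.mem_top k : k ∈ H) y hy).1

theorem mon_coord {a α : Fin 3 → K} (h2 : ∑ i, a i * α i = 2) (a0 : a ≠ 0) (α0 : α ≠ 0)
    (h : ∀ i, ∃ (j : Fin 3) (c : K), ∀ l,
      (if l = i then 1 else 0) - α i * a l = c * if l = j then 1 else 0) :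
    (∃ i j, i ≠ j ∧ a i * α i = 1 ∧ a j * α j = 1 ∧ ∀ l, l ≠ i → l ≠ j → a l = 0 ∧ α l = 0) ∨
      ∃ i, a i ≠ 0 ∧ a i * α i = 2 ∧ ∀ l, l ≠ i → a l = 0 ∧ α l = 0 := by
  have k : ∀ i, α i ≠ 0 → (∀ l, l ≠ i → a l = 0) ∨
      (a i * α i = 1 ∧ ∃ j, i ≠ j ∧ ∀ l, l ≠ i → l ≠ j → a l = 0) := fun i hi => by
    obtain ⟨j, c, hc⟩ := h i
    by_cases e : i = j
    · subst e
      exact Or.inl fun l hl => by simpa [hl, hi] using hc l
    · refine Or.inr ⟨?_, j, e, fun l h1 h2 => by simpa [h1, h2, hi] using hc l⟩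
      have := hc i
      simp only [if_true, e, if_false] at this
      linear_combination -this
  by_cases hA : ∃ i, ∀ l, l ≠ i → a l = 0
  · obtain ⟨i, hi⟩ := hA
    have ai : a i ≠ 0 := fun e => a0 (funext fun l => by
      by_cases hl : l = i
      exacts [hl ▸ e, hi l hl])
    refine Or.inr ⟨i, ai, ?_, fun l hl => ⟨hi l hl, by_contra fun e => ?_⟩⟩
    · rw [← h2, Fintype.sum_eq_single i fun l hl => by rw [hi l hl, zero_mul]]
    · rcases k l e with e1 | ⟨e1, -⟩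
      · exact ai (e1 i (Ne.symm hl))
      · simp [hi l hl] at e1
  obtain ⟨i, hi⟩ := Function.ne_iff.1 α0
  obtain ⟨e1, j, hij, e2⟩ := (k i hi).resolve_left fun e => hA ⟨i, e⟩
  refine Or.inl ⟨i, j, hij, e1, ?_, fun l h1 h2 => ⟨e2 l h1 h2, by_contra fun e => ?_⟩⟩
  · rw [Fintype.sum_eq_add i j hij fun l hl => by rw [e2 l hl.1 hl.2, zero_mul]] at h2
    linear_combination h2 - e1
  · simpa [e2 l h1 h2] using ((k l e).resolve_left fun e => hA ⟨l, e⟩).1

theorem expand3 {e x : Fin 3 → V3 K} (d : ∀ i j, x i ⬝ᵥ e j = if i = j then 1 else 0) (y : V3 K) :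
    y = ∑ i, (x i ⬝ᵥ y) • e i := by
  have h1 : (of x) * (of e)ᵀ = 1 := by ext i j; rw [one_apply, ← d i j]; rfl
  have := congrArg (· *ᵥ y) (mul_eq_one_comm.1 h1)
  simp only [← mulVec_mulVec, one_mulVec] at this
  conv_lhs => rw [← this]
  ext j; simp [mulVec, dotProduct, mul_comm]

end

variable {K : Type*} [Field K] [IsAlgClosed K] {Λ : Type*} [Group Λ] [Finite Λ] {τ : Λ →* M3 K}

omit [IsAlgClosed K] [Finite Λ] in
theorem R3.mon_of_lines' (r : R3 τ) {e x : Fin 3 → V3 K}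
    (d : ∀ i j, x i ⬝ᵥ e j = if i = j then 1 else 0)
    (h : ∀ v f, D3 τ v f → ∀ i, ∃ (j : Fin 3) (c : K), e i - (f ⬝ᵥ e i) • v = c • e j) :
    Mon3 τ := by
  classical
  have d' : ∀ i j, e i ⬝ᵥ x j = if i = j then 1 else 0 := fun i j => by
    rw [dotProduct_comm, d j i]; simp only [eq_comm]
  have m : ∀ v f, D3 τ v f → (∃ (i j : Fin 3) (a b : K), i ≠ j ∧ a ≠ 0 ∧ b ≠ 0 ∧
      v = a • e i + b • e j ∧ f = a⁻¹ • x i + b⁻¹ • x j) ∨
      ∃ (i : Fin 3) (a : K), a ≠ 0 ∧ v = a • e i ∧ f = (2 * a⁻¹) • x i := fun v f t => by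
    have ev := expand3 d v
    have ef := expand3 d' f
    simp only [dotProduct_comm (e _) f] at ef
    rcases mon_coord (a := fun i => x i ⬝ᵥ v) (α := fun i => f ⬝ᵥ e i)
      (by rw [← t.1]; conv_rhs => rw [ev]
          simp [dotProduct_sum])
      (fun z => t.2.1 (by rw [ev]; simp [show ∀ i, x i ⬝ᵥ v = 0 from congrFun z]))
      (fun z => t.2.2.1 (by rw [ef]; simp [show ∀ i, f ⬝ᵥ e i = 0 from congrFun z]))
      (fun i => by
        obtain ⟨j, c, hc⟩ := h v f t i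
        exact ⟨j, c, fun l => by simpa [d] using congrArg (x l ⬝ᵥ ·) hc⟩) with
      ⟨i, j, hij, p, q, z⟩ | ⟨i, p, q, z⟩
    · refine Or.inl ⟨i, j, _, _, hij, left_ne_zero_of_mul_eq_one p, left_ne_zero_of_mul_eq_one q,
        ev.trans (Fintype.sum_eq_add i j hij fun l hl => by rw [(z l hl.1 hl.2).1, zero_smul]), ?_⟩
      rw [← eq_inv_of_mul_eq_one_right p, ← eq_inv_of_mul_eq_one_right q]
      exact ef.trans (Fintype.sum_eq_add i j hij fun l hl => by rw [(z l hl.1 hl.2).2, zero_smul])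
    · refine Or.inr ⟨i, _, p, ev.trans (Fintype.sum_eq_single i fun l hl => by
        rw [(z l hl).1, zero_smul]), ?_⟩
      rw [← q, mul_comm, inv_mul_cancel_left₀ p]
      exact ef.trans (Fintype.sum_eq_single i fun l hl => by rw [(z l hl).2, zero_smul])
  let S : Fin 3 → Fin 3 → Prop := fun i j =>
    ∃ φ : K, φ ≠ 0 ∧ D3 τ (e i - φ • e j) (x i - φ⁻¹ • x j)
  have s1 : ∀ (i j : Fin 3) (a b : K), a ≠ 0 → b ≠ 0 →
      D3 τ (a • e i + b • e j) (a⁻¹ • x i + b⁻¹ • x j) → S i j := fun i j a b ha hb t =>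
    ⟨-(b / a), by simp [ha, hb], by
      convert t.smul (inv_ne_zero ha) using 1 <;> match_scalars <;> field_simp⟩
  have s2 : ∀ i j l, i ≠ l → j ≠ l → S i j → S j l → S i l :=
    fun i j l h1 h2 ⟨φ, p, t⟩ ⟨ψ, q, t'⟩ => by
    by_cases h3 : i = j
    · exact h3 ▸ ⟨ψ, q, t'⟩
    refine ⟨φ * ψ, mul_ne_zero p q, ?_⟩
    have := t'.act t
    simp only [sub_dotProduct, dotProduct_sub, smul_dotProduct, dotProduct_smul, d, h1, h2, h3,
      Ne.symm h1, Ne.symm h2, Ne.symm h3, if_true, if_false, smul_eq_mul] at this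
    convert this using 1 <;> match_scalars <;> field_simp <;> ring
  refine ⟨e, x, d, fun i j hij => by_contra fun hc => ?_, m⟩
  let W : Submodule K (V3 K) :=
    { carrier := {y | ∀ l, l ≠ i → ¬ S i l → x l ⬝ᵥ y = 0}
      add_mem' := fun ha hb l h1 h2 => by rw [dotProduct_add, ha l h1 h2, hb l h1 h2, add_zero]
      zero_mem' := fun _ _ _ => dotProduct_zero _
      smul_mem' := fun c _ ha l h1 h2 => by rw [dotProduct_smul, ha l h1 h2, smul_zero] }
  have k : ∀ (p q : Fin 3) (a b : K), p ≠ q → a ≠ 0 → b ≠ 0 →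
      D3 τ (a • e p + b • e q) (a⁻¹ • x p + b⁻¹ • x q) → p ≠ i → ¬ S i p → ∀ y ∈ W,
      (a⁻¹ • x p + b⁻¹ • x q) ⬝ᵥ y = 0 := fun p q a b h1 ha hb t h2 h3 y hy => by
    have t' := s1 q p b a hb ha (by rwa [add_comm, add_comm (b⁻¹ • x q)])
    simp [hy p h2 h3, hy q (fun e => h3 (e ▸ t')) fun s => h3 (s2 _ _ _ h2.symm h1.symm s t')]
  rcases r.tirr W (fun v f t y hy l h1 h2 => by
    rw [dotProduct_sub, hy l h1 h2, dotProduct_smul, zero_sub, neg_eq_zero, smul_eq_zero]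
    rcases m v f t with ⟨p, q, a, b, hpq, ha, hb, rfl, rfl⟩ | ⟨p, a, ha, rfl, rfl⟩
    · by_cases e1 : l = p
      · exact Or.inl (k p q a b hpq ha hb t (e1 ▸ h1) (e1 ▸ h2) y hy)
      by_cases e2 : l = q
      · exact Or.inl ((congrArg (· ⬝ᵥ y) (add_comm _ _)).trans (k q p b a hpq.symm hb ha
          (by rwa [add_comm, add_comm (b⁻¹ • x q)]) (e2 ▸ h1) (e2 ▸ h2) y hy))
      exact Or.inr (by simp [d, e1, e2])
    · by_cases e1 : l = p
      · exact Or.inl (by simp [← e1, hy l h1 h2])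
      · exact Or.inr (by simp [d, e1])) with e1 | e1
  · have : e i ∈ W := fun l h1 _ => by simp [d, h1]
    simpa [(Submodule.mem_bot K).1 (e1 ▸ this)] using d i i
  · simpa [d] using (e1 ▸ Submodule.mem_top : e j ∈ W) j hij.symm hc

theorem R3.mon_of_lines (r : R3 τ) {e x : Fin 3 → V3 K}
    (d : ∀ i j, x i ⬝ᵥ e j = if i = j then 1 else 0)
    (h : ∀ v f, D3 τ v f → ∀ i, ∃ (j : Fin 3) (c : K), e i - (f ⬝ᵥ e i) • v = c • e j) :
    Mon3 τ := r.mon_of_lines' d h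

omit [Finite Λ] in
theorem R3.mon_of_comm (r : R3 τ) (N : Subgroup Λ) (hN : N.Normal)
    (hab : ∀ a ∈ N, ∀ b ∈ N, τ a * τ b = τ b * τ a)
    (hns : ∃ a ∈ N, ∀ c : K, τ a ≠ c • 1) : Mon3 τ := by
  let E : (Λ → K) → Submodule K (V3 K) := fun χ =>
    { carrier := {y | ∀ n ∈ N, τ n *ᵥ y = χ n • y}
      add_mem' := fun ha hb n hn => by rw [mulVec_add, ha n hn, hb n hn, smul_add]
      zero_mem' := fun _ _ => by simp
      smul_mem' := fun c _ ha n hn => by rw [mulVec_smul, ha n hn, smul_comm] }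
  have cj : ∀ χ g, ∀ y ∈ E χ, τ g *ᵥ y ∈ E fun n => χ (g⁻¹ * n * g) := fun χ g y hy n hn => by
    rw [← mulVec_smul, ← hy _ (hN.conj_mem' n hn g), mulVec_mulVec, mulVec_mulVec, ← map_mul,
      ← map_mul]
    simp [mul_assoc]
  have one : ∀ χ, Module.finrank K (E χ) ≤ 1 := fun χ => by
    by_contra hc
    rcases r.irr (E χ) (fun g y hy => by
      have h1 : Module.finrank K (E χ) ≤ Module.finrank K (E fun n => χ (g⁻¹ * n * g)) :=
        LinearMap.finrank_le_finrank_of_injective (f := (toLin' (τ g)).restrict (cj χ g))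
          fun a b e => Subtype.ext (mulVec_injective_iff_isUnit.2 (H10.P3.isUnit_rho τ g)
            (congrArg Subtype.val e))
      have h2 : ¬ Disjoint (E χ) (E fun n => χ (g⁻¹ * n * g)) := fun h2 => by
        have := Submodule.finrank_add_finrank_le_of_disjoint h2
        simp only [Module.finrank_fintype_fun_eq_card, Fintype.card_fin] at this
        omega
      rw [Submodule.disjoint_def] at h2
      push Not at h2
      obtain ⟨z, z1, z2, z0⟩ := h2
      intro n hn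
      rw [cj χ g y hy n hn, smul_left_injective K z0 ((z2 n hn).symm.trans (z1 n hn))]) with e | e
    · exact hc (by rw [e, finrank_bot]; omega)
    · obtain ⟨a, ha, h⟩ := hns
      refine h (χ a) (ext_of_mulVec_single fun i => ?_)
      rw [(e ▸ Submodule.mem_top : _ ∈ E χ) a ha, smul_mulVec, one_mulVec]
  obtain ⟨v0, -, n0, h0⟩ := H10.P3.exists_common_eig (fun n : N => τ n)
    (fun a b => hab _ a.2 _ b.2) ⊤ top_ne_bot fun _ _ _ => trivial
  have hs : ⊤ ≤ Submodule.span K {y : V3 K | ∃ χ, y ∈ E χ} := by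
    refine ((r.irr _ fun g y hy => ?_).resolve_left fun e => n0 ?_).ge
    · have : Submodule.span K {y : V3 K | ∃ χ, y ∈ E χ} ≤ Submodule.comap (toLin' (τ g))
          (Submodule.span K {y : V3 K | ∃ χ, y ∈ E χ}) :=
        Submodule.span_le.2 fun y ⟨χ, hy⟩ => Submodule.subset_span ⟨_, cj χ g y hy⟩
      exact this hy
    · classical
      choose c hc using h0
      exact Submodule.span_eq_bot.1 e _
        ⟨fun n => if hn : n ∈ N then c ⟨n, hn⟩ else 0, fun n hn => by simpa [hn] using hc ⟨n, hn⟩⟩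
  let b0 := Module.Basis.ofSpan hs
  let b := b0.reindex (b0.indexEquiv (Pi.basisFun K (Fin 3)))
  have hb : ∀ k, ∃ χ, b k ∈ E χ := fun k => by
    rw [Module.Basis.reindex_apply]
    exact Module.Basis.ofSpan_subset hs ⟨_, rfl⟩
  choose l hl using hb
  have hu : IsUnit (Matrix.of fun i j => b j i) :=
    linearIndependent_cols_iff_isUnit.1 b.linearIndependent
  have d : ∀ i j, hu.unit⁻¹.val i ⬝ᵥ b j = if i = j then 1 else 0 := fun i j => by
    rw [← one_apply, ← hu.unit.inv_mul]; rfl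
  refine r.mon_of_lines' d fun v f ⟨_, _, _, g, hg⟩ i => ?_
  have h1 := cj _ g _ (hl i)
  have h2 := H10.P3.rho_mulVec_ne τ g (b.ne_zero i)
  rw [hg, sub_mulVec, one_mulVec, H10.P3.vv_mulVec] at h1 h2
  generalize b i - (f ⬝ᵥ b i) • v = y at h1 h2
  generalize (fun n => l i (g⁻¹ * n * g)) = χ at h1
  obtain ⟨j, hj⟩ : ∃ j, hu.unit⁻¹.val j ⬝ᵥ y ≠ 0 := by
    by_contra hc
    push Not at hc
    exact h2 (by rw [expand3 d y]; simp only [hc, zero_smul, Finset.sum_const_zero])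
  have h3 : b j ∈ E χ := fun n hn => by
    have e1 := congrArg (hu.unit⁻¹.val j ⬝ᵥ ·) (h1 n hn)
    conv_lhs at e1 => rw [expand3 d y]
    simp only [mulVec_sum, mulVec_smul, fun k => hl k n hn, dotProduct_sum, dotProduct_smul, d,
      smul_eq_mul, mul_ite, mul_one, mul_zero, Finset.sum_ite_eq, Finset.mem_univ, if_true] at e1
    rw [hl j n hn, mul_left_cancel₀ hj (e1.trans (mul_comm _ _))]
  obtain ⟨c, hc⟩ := exists_smul_eq_of_finrank_eq_one (K := K) (le_antisymm (one χ)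
    (Submodule.one_le_finrank_iff.2 (Submodule.ne_bot_iff _ |>.2 ⟨_, h1, h2⟩)))
    (x := ⟨_, h3⟩) (fun e => b.ne_zero j (congrArg Subtype.val e)) ⟨y, h1⟩
  exact ⟨j, c, (congrArg Subtype.val hc).symm⟩

theorem R3.mon_of_ab (r : R3 τ) (N : Subgroup Λ) [N.Normal]
    (hab : ∀ a ∈ N, ∀ b ∈ N, ∃ c : K, τ (a * b) = c • τ (b * a))
    (hns : ∃ a ∈ N, ∀ c : K, τ a ≠ c • 1) : Mon3 τ := by
  by_cases hc : ∀ a ∈ N, ∀ b ∈ N, τ a * τ b = τ b * τ a
  · exact r.mon_of_comm N ‹_› hc hns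
  push Not at hc
  obtain ⟨a, ha, b, hb, hc⟩ := hc
  have u := H10.P3.isUnit_rho τ
  have cb : ∀ a ∈ N, ∀ b ∈ N, ∃ c : K, c ^ 3 = 1 ∧ τ a * τ b = c • (τ b * τ a) :=
    fun a ha b hb => by
    obtain ⟨c, hc⟩ := hab a ha b hb
    refine ⟨c, ?_, by simpa using hc⟩
    have := congrArg det hc
    rw [det_smul, map_mul, map_mul, det_mul, det_mul, mul_comm, Fintype.card_fin] at this
    exact mul_right_cancel₀ (((isUnit_iff_isUnit_det _).1 (u b)).mul
      ((isUnit_iff_isUnit_det _).1 (u a))).ne_zero (by rw [← this, one_mul])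
  obtain ⟨ω, h3, hω⟩ := cb a ha b hb
  have h1 : ω ≠ 1 := fun e => hc (by rw [hω, e, one_smul])
  have k1 : ∀ n ∈ N, τ n * τ a = τ a * τ n → ∃ (k : ℕ) (s : K), τ n * τ a ^ k = s • 1 :=
    fun n hn e => by
    obtain ⟨η, e3, hη⟩ := cb n hn b hb
    obtain ⟨k, hk⟩ : ∃ k : ℕ, η * ω ^ k = 1 := by
      have w : ω ^ 2 + ω + 1 = 0 := mul_left_cancel₀ (sub_ne_zero.2 h1) (by linear_combination h3)
      have : (η - 1) * ((η * ω - 1) * (η * ω ^ 2 - 1)) = 0 := by
        linear_combination e3 + (η ^ 3 - η ^ 2) * h3 + (η - η ^ 2) * w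
      rcases mul_eq_zero.1 this with e | e
      · exact ⟨0, by linear_combination e⟩
      rcases mul_eq_zero.1 e with e | e
      exacts [⟨1, by linear_combination e⟩, ⟨2, by linear_combination e⟩]
    have p : ∀ k : ℕ, τ a ^ k * τ b = ω ^ k • (τ b * τ a ^ k) := fun k => by
      induction k with
      | zero => simp
      | succ k ih => rw [pow_succ', mul_assoc, ih, mul_smul_comm, ← mul_assoc, hω, smul_mul_assoc,
          smul_smul, mul_assoc, pow_succ]
    exact ⟨k, H10.P3.scalar_of_heis h3 h1 (u a) (u b) hω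
      ((Commute.mul_left e (Commute.pow_self _ k)).eq) (by
        rw [mul_assoc, p, mul_smul_comm, ← mul_assoc, hη, smul_mul_assoc, smul_smul, mul_comm, hk,
          one_smul, mul_assoc])⟩
  have k2 : ∀ (M A B : M3 K) (k : ℕ) (s : K), IsUnit A → M * A = A * M → B * A ^ k = s • 1 →
      B * M = M * B := fun M A B k s hA e1 e2 => (hA.pow k).mul_right_cancel (by
    rw [mul_assoc, (Commute.pow_right e1 k).eq, ← mul_assoc, e2, mul_assoc, e2]; simp)
  let N0 : Subgroup Λ := N ⊓ (Submonoid.centralizer {τ a}).units.comap τ.toHomUnits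
  have m0 : ∀ n, n ∈ N0 ↔ n ∈ N ∧ τ n * τ a = τ a * τ n := fun n => by
    refine and_congr_right fun _ => ⟨fun h => (h.1 _ rfl).symm, fun h => ⟨?_, ?_⟩⟩
    · rintro _ rfl; exact h.symm
    · rintro _ rfl
      exact (Commute.units_inv_right (u := τ.toHomUnits n) h.symm).eq
  have nm := r.gen (Subgroup.normalizer (N0 : Set Λ)) fun g v f p _ _ e => by
    have gi := tau_inv3 p e
    have g2 : τ g * τ g = 1 := by rw [e, refl_sq3 p]
    refine Subgroup.mem_normalizer_fintype fun n hn => (m0 _).2 ?_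
    obtain ⟨n1, n2⟩ := (m0 n).1 hn
    obtain ⟨k, s, hk⟩ := k1 n n1 n2
    have an := ‹N.Normal›.conj_mem a ha g
    refine ⟨‹N.Normal›.conj_mem n n1 g, k2 _ _ _ k s (u (g * a * g⁻¹)) ?_ ?_⟩
    · obtain ⟨η, e3, hη⟩ := cb a ha _ an
      have e4 : τ (g * a * g⁻¹) * τ a = η • (τ a * τ (g * a * g⁻¹)) := by
        have := congrArg (fun M => τ g * M * τ g) hη
        simp only [map_mul, gi, mul_smul_comm, smul_mul_assoc, ← mul_assoc, g2, one_mul] at this ⊢
        rw [mul_assoc _ (τ g) (τ g), g2, mul_one] at this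
        exact this
      have e5 := hη
      rw [e4, smul_smul] at e5
      have e6 : η * η = 1 := smul_left_injective K ((u a).mul (u _)).ne_zero
        (e5.symm.trans (one_smul _ _).symm)
      rw [hη, show η = 1 by linear_combination e3 - η * e6, one_smul]
    · rw [← map_pow, ← map_mul, conj_pow, show g * n * g⁻¹ * (g * a ^ k * g⁻¹) =
        g * (n * a ^ k) * g⁻¹ by group, map_mul, map_mul, map_mul, map_pow, hk]
      simp [gi, g2]
  refine r.mon_of_comm N0 (Subgroup.normalizer_eq_top_iff.1 nm) (fun n hn m hm => ?_)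
    ⟨a, (m0 a).2 ⟨ha, rfl⟩, fun c e => hc (by simp [e])⟩
  obtain ⟨k, s, hk⟩ := k1 n ((m0 n).1 hn).1 ((m0 n).1 hn).2
  exact k2 _ _ _ k s (u a) ((m0 m).1 hm).2 hk

end Cfsg.Agent.D5
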