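import Cfsg.Agent.H10.P3Nrm

/-!
Involutions normalising a quasisimple irreducible subgroup of `SL₃(q)`.
-/

set_option autoImplicit false

open Matrix Subgroup
open scoped MatrixGroups

namespace Cfsg.Agent.D5.R3c

open H10 H10.P3 H98

variable {K : Type*} [Field K] {Γ X : Type*} [Group Γ] [Group X] {ρ : Γ →* M3 K} {π : Γ →* X}

theorem fix_inv {G : Type*} [Group G] [Finite G] (α : MulAut G) (h : ∀ g, α (α g) = g) {a : G}
    (h1 : a ≠ 1) (h2 : a * a = 1) : ∃ t, t ≠ 1 ∧ t * t = 1 ∧ α t = t := by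
  have h3 : α a * α a = 1 := by rw [← map_mul, h2, map_one]
  have e0 : α a = a * (a * α a) := by rw [← mul_assoc, h2, one_mul]
  have e1 : α (a * α a) = (a * α a)⁻¹ := by
    rw [map_mul, h, eq_inv_iff_mul_eq_one, mul_assoc, ← e0, h3]
  have e2 : a * (a * α a) * a⁻¹ = (a * α a)⁻¹ := by
    rw [← e0, ← e1, map_mul, h, inv_eq_of_mul_eq_one_right h2]
  generalize a * α a = x at e0 e1 e2
  have e3 : ∀ k : ℕ, a * x ^ k = (x ^ k)⁻¹ * a := fun k => by
    rw [← inv_pow, ← e2, conj_pow, inv_mul_cancel_right]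
  have e4 := pow_orderOf_eq_one x
  rcases Nat.even_or_odd' (orderOf x) with ⟨k, hk | hk⟩
  · have e5 : x ^ k * x ^ k = 1 := by rw [← pow_add, ← two_mul, ← hk, e4]
    have := orderOf_pos x
    exact ⟨x ^ k, pow_ne_one_of_lt_orderOf (by omega) (by omega), e5, by
      rw [map_pow, e1, inv_pow, inv_eq_of_mul_eq_one_right e5]⟩
  have e5 : x ^ k * (x * x ^ k) = 1 := by
    rw [← pow_succ', ← pow_add, show k + (k + 1) = orderOf x by omega, e4]
  refine ⟨x ^ k * a, fun e => h1 ?_, ?_, ?_⟩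
  · have e6 := eq_inv_of_mul_eq_one_right e
    have e7 : x ^ k * x ^ k = 1 := by
      rw [e6, ← _root_.mul_inv_rev, inv_eq_one] at h2
      exact h2
    rw [← (Commute.self_pow x k).eq.symm, ← mul_assoc, e7, one_mul] at e5
    rw [e6, e5, one_pow, inv_one]
  · rw [mul_assoc, ← mul_assoc a, e3, mul_assoc, h2, mul_one, mul_inv_cancel]
  · have := e3 1
    rw [pow_one] at this
    rw [map_mul, map_pow, e1, e0, this, inv_pow, ← mul_assoc, ← _root_.mul_inv_rev,
      inv_eq_of_mul_eq_one_left e5]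

theorem a6_words : ∀ e : Equiv.Perm (Fin 6), Equiv.Perm.sign e = 1 → e * a6a.1 * e⁻¹ = a6a.1 →
    ∃ w ∈ [[true, false, false, false, true, false, true, false, false, false],
      [true, false, false, true, false, false, false, true, false, false, true],
      [false, false, true, false, true, false, false, false, true, false],
      [false, true, false, false, false, true, false, true, false, false],
      [false, false, false, true, false, true, false, false, false, true],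
      [true, false, false, true, false, true, false, false, false, true, false, true],
      [true, false, true, false, false, false, true, false, true, false, false, true],
      [false, false, true, false, false, false, true, false, false]],
      wd a6a.1 a6b.1 w = e * a6m.1 * e⁻¹ ∧ wd a6a.1 (e * a6m.1 * e⁻¹) w ≠ a6b.1 := by
  decide +kernel

theorem a6_no_inv (α : MulAut (alternatingGroup (Fin 6))) (h : ∀ g, α (α g) = g)
    {d : alternatingGroup (Fin 6)} (ha : α a6a = d * a6a * d⁻¹) (hb : α a6b = d * a6m * d⁻¹) :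
    False := by
  have a1 : a6a ≠ 1 := by decide +kernel
  have a2 : a6a ^ 2 = 1 := by decide +kernel
  obtain ⟨t, t1, t2, t3⟩ := fix_inv α h a1 (sq a6a ▸ a2)
  obtain ⟨y, hy⟩ := isConj_iff.1 (H56.isConj_of_order H56.Alt.a6_classes (fuel := 10) (o := 2)
    (X := nat_lit 0x2c4c1) (by decide +kernel) t a6a (orderOf_eq_prime (by rwa [sq]) t1)
    (orderOf_eq_prime a2 a1))
  let β : MulAut (alternatingGroup (Fin 6)) := MulAut.conj y * α * (MulAut.conj y)⁻¹
  have h1 : ∀ g, β g = y * (α y)⁻¹ * α g * (y * (α y)⁻¹)⁻¹ := fun g => by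
    simp [β, mul_assoc]
  have h2 : ∀ g, β (β g) = g := fun g => by simp [β, h, mul_assoc]
  have h3 : β a6a = a6a := by
    rw [h1]
    conv_lhs => rw [← hy, map_mul, map_mul, t3, map_inv]
    rw [← hy]; group
  have h4 : β a6b = y * (α y)⁻¹ * d * a6m * (y * (α y)⁻¹ * d)⁻¹ := by rw [h1, hb]; group
  have h5 : y * (α y)⁻¹ * d * a6a * (y * (α y)⁻¹ * d)⁻¹ = a6a := by
    conv_rhs => rw [← h3, h1, ha]
    group
  generalize y * (α y)⁻¹ * d = e at h4 h5
  obtain ⟨w, -, w1, w2⟩ := a6_words e.1 e.2 (congrArg Subtype.val h5)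
  have k := fun a b => map_wd (alternatingGroup (Fin 6)).subtype a b w
  have w3 : wd a6a a6b w = β a6b := Subtype.ext (by rw [h4]; exact (k _ _).trans w1)
  have w4 : wd a6a (β a6b) w = a6b := by
    have := map_wd β.toMonoidHom a6a a6b w
    rw [w3, MulEquiv.coe_toMonoidHom, h2, h3] at this
    exact this.symm
  exact w2 ((k a6a (e * a6m * e⁻¹)).symm.trans (by rw [← h4, w4]; rfl))

theorem a6_inn [Finite X] (h : Hyp ρ π) (e : IsAlt 6 X) (h2 : (2 : K) ≠ 0) (h3 : (3 : K) ≠ 0)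
    {m : (M3 K)ˣ} (hm : Nrm ρ m) (m2 : m * m = 1) : P3.Inn ρ m := by
  obtain ⟨e⟩ := e
  have h' := h.congr e
  generalize e.toMonoidHom.comp π = π' at h'
  obtain ⟨x, y, hn, ha⟩ := a6_aut
  obtain ⟨c, α, h1, h4⟩ := h'.exists_aut hm
  rcases ha α with ⟨y, hy⟩ | f | ⟨d, a, b⟩
  · exact h'.inn_of_aut h1 (y := y) fun g => by rw [h4, hy]
  · exact (h'.not_flip h2 h3 hn h1 h4 f).elim
  refine (a6_no_inv α (fun g => ?_) a b).elim
  obtain ⟨g, rfl⟩ := h'.surj g
  rw [← h4, ← h4, h'.inj (a₁ := c (c g)) (a₂ := g) (by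
    rw [h1, h1, ← mul_assoc, ← mul_assoc, ← Units.val_mul, mul_assoc, ← Units.val_mul,
      ← _root_.mul_inv_rev, m2]; simp)]

theorem omega (h : Hyp ρ π) (h2 : (2 : K) ≠ 0) (h3 : (3 : K) ≠ 0)
    (e : IsAlt 6 X ∨ IsAlt 7 X) : ∃ (z : Γ) (ω : K), ω ^ 3 = 1 ∧ ω ≠ 1 ∧ ρ z = ω • 1 := by
  have k : ∀ {Y : Type} [Group Y] {π : Γ →* Y} {x y : Y}, Hyp ρ π → Nine x y →
      ∃ (z : Γ) (ω : K), ω ^ 3 = 1 ∧ ω ≠ 1 ∧ ρ z = ω • 1 := fun {_ _ π x y} h hn => by
    obtain ⟨a, rfl⟩ := h.surj x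
    obtain ⟨b, rfl⟩ := h.surj y
    obtain ⟨z, hz, e⟩ := h.exists_ker_of_eq (a := a * b) (b := b * a) (by simpa using hn.1)
    obtain ⟨ω, hω⟩ := (h.ker z).1 hz
    refine ⟨z, ω, h.cube hω, fun e1 => h.nine_ne h2 h3 hn ?_, hω⟩
    rw [e, h.inj (a₁ := z) (a₂ := 1) (by simp [hω, e1]), one_mul]
  rcases e with ⟨⟨e⟩⟩ | ⟨⟨e⟩⟩
  · exact let ⟨_, _, hn, _⟩ := a6_aut; k (h.congr e) hn
  · exact let ⟨_, _, hn, _⟩ := a7_aut; k (h.congr e) hn

theorem real_tri [Finite K] (h : Hyp ρ π) (h2 : (2 : K) ≠ 0) (hr : Real ρ) (m : Fin 3 → (M3 K)ˣ)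
    (hm : ∀ i, Nrm ρ (m i) ∧ m i * m i = 1 ∧ (m i).val.trace ≠ 0) :
    ((m 0).val * (m 1).val * (m 2).val).trace = ((m 2).val * ((m 1).val * (m 0).val)).trace := by
  obtain ⟨f, h1, h3⟩ := h.exists_sym h2 hr
  have a : ∀ g, adj (RingEquiv.refl K) f (ρ g) = ρ g⁻¹ := fun g =>
    (h1.adj_of_fixes h3 (g := ρ.toHomUnits g) ⟨g, rfl⟩).trans (by rw [← map_inv]; rfl)
  have k : ∀ i, adj (RingEquiv.refl K) f (m i).val = (m i).val := fun i => by
    obtain ⟨n, s, t⟩ := hm i
    obtain ⟨c, hc⟩ := h.scalar_of_comm (M := adj (RingEquiv.refl K) f (m i).val * (m i).val)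
      fun g => by
        obtain ⟨g', e⟩ := n g
        have e1 : (m i).val * ρ g = ρ g' * (m i).val := by rw [e]; simp
        have e2 := congrArg (fun M => ρ g * adj (RingEquiv.refl K) f M * ρ g') e1
        simp only [h1.adj_mul, a] at e2
        rw [← mul_assoc, mul_inv_rho, one_mul, mul_assoc, mul_assoc, inv_mul_rho, mul_one] at e2
        rw [mul_assoc, e1, ← mul_assoc, e2, mul_assoc]
    have e3 := congrArg (· * (m i).val) hc
    simp only [mul_assoc, ← Units.val_mul, s, Units.val_one, mul_one, smul_mul_assoc,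
      one_mul] at e3
    have e4 := h1.trace_adj (m i).val
    rw [e3, trace_smul, smul_eq_mul] at e4
    rw [e3, (mul_eq_right₀ t).1 e4, one_smul]
  have := h1.trace_adj ((m 0).val * (m 1).val * (m 2).val)
  rw [h1.adj_mul, h1.adj_mul, k, k, k] at this
  exact this.symm

theorem trace_cases (h : Hyp ρ π) (h2 : (2 : K) ≠ 0) {g : Γ} (hg : g ^ 3 = 1 ∨ g ^ 4 = 1)
    (hr : (ρ g⁻¹).trace = (ρ g).trace) :
    (ρ g).trace = -1 ∨ (ρ g).trace = 0 ∨ (ρ g).trace = 1 ∨ g = 1 := by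
  have c := h.cayley g
  have c2 := h.trace_sq g
  rw [hr] at c c2
  rw [map_pow] at c2
  have u := isUnit_rho ρ g
  have k : ρ g = 1 → g = 1 := fun e => h.inj (e.trans (map_one ρ).symm)
  rcases hg with hg | hg <;> replace hg := congrArg ρ hg <;> rw [map_pow, map_one] at hg
  · rw [hg, ← smul_sub, right_eq_add, smul_eq_zero, sub_eq_zero, sq] at c
    exact Or.inr (c.imp_right fun c => Or.inr (k (u.mul_left_cancel (c.trans (mul_one _).symm))))
  generalize ρ g = M at c c2 hg k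
  set t := M.trace
  have e1 : (t - 1) • (t • M ^ 2 - (t + 1) • M + 1) = 0 := by
    have : M ^ 4 = t • M ^ 3 - t • M ^ 2 + M := by
      rw [pow_succ, c]
      simp only [add_mul, sub_mul, smul_mul_assoc, one_mul, ← pow_succ, ← sq, Nat.reduceAdd, c]
    rw [hg, c] at this
    linear_combination (norm := module) -this
  rcases smul_eq_zero.1 e1 with e | e
  · exact Or.inr (Or.inr (Or.inl (sub_eq_zero.1 e)))
  have e2 := congrArg trace e
  simp only [trace_add, trace_sub, trace_smul, c2, trace_one, trace_zero, smul_eq_mul,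
    Fintype.card_fin, Nat.cast_ofNat] at e2
  have e3 : (t + 1) * ((t - 1) * (t - 3)) = 0 := by linear_combination e2
  rcases mul_eq_zero.1 e3 with e3 | e3
  · exact Or.inl (eq_neg_of_add_eq_zero_left e3)
  rcases mul_eq_zero.1 e3 with e3 | e3
  · exact Or.inr (Or.inr (Or.inl (sub_eq_zero.1 e3)))
  rw [sub_eq_zero.1 e3] at c e
  have e4 := congrArg (M * ·) e
  simp only [mul_add, mul_sub, mul_smul_comm, mul_one, mul_zero, ← pow_succ', ← sq, c] at e4
  have e5 : ((2 : K) * 2) • (M - 1) = 0 := by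
    linear_combination (norm := module) (5 : K) • e - (3 : K) • e4
  exact Or.inr (Or.inr (Or.inr (k (sub_eq_zero.1
    ((smul_eq_zero.1 e5).resolve_left (mul_ne_zero h2 h2))))))

theorem l7_pair [Finite X] (h : Hyp ρ π) (e : IsL7 X) (h2 : (2 : K) ≠ 0) (h7 : (7 : K) ≠ 0)
    {a b : (M3 K)ˣ} (ha : Nrm ρ a ∧ a * a = 1 ∧ a.val.det = 1)
    (hb : Nrm ρ b ∧ b * b = 1 ∧ b.val.det = 1) : (a.val * b.val).trace = -1 ∨
      (a.val * b.val).trace = 0 ∨ (a.val * b.val).trace = 1 ∨ a * b = 1 := by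
  have hk := fun z => h.l7_ker e (z := z)
  have k : ∀ {a : (M3 K)ˣ}, Nrm ρ a ∧ a * a = 1 ∧ a.val.det = 1 → ∃ g, ρ g = a.val ∧ g * g = 1 := by
    rintro a ⟨n, s, d⟩
    obtain ⟨c, g, hc⟩ := h.l7_inn e h7 n
    have c3 : c ^ 3 = 1 := by simpa [hc, h.det] using d
    have s1 := congrArg Units.val s
    rw [Units.val_mul, hc, smul_mul_smul_comm, ← map_mul, Units.val_one] at s1
    have g2 : g * g = 1 := hk _ ((h.ker _).2 ⟨c, by
      rw [← s1, smul_smul, ← sq c, ← pow_succ', c3, one_smul]⟩)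
    rw [g2, map_one, ← one_smul K (1 : M3 K), smul_smul, mul_one] at s1
    have : c = 1 := by linear_combination c3 - c * smul_one_inj s1
    exact ⟨g, by rw [hc, this, one_smul], g2⟩
  obtain ⟨g, e1, g2⟩ := k ha
  obtain ⟨g', e2, g2'⟩ := k hb
  have hr : (ρ (g * g')⁻¹).trace = (ρ (g * g')).trace := by
    rw [_root_.mul_inv_rev, inv_eq_of_mul_eq_one_right g2, inv_eq_of_mul_eq_one_right g2', map_mul,
      map_mul, trace_mul_comm]
  have one : g * g' = 1 → a * b = 1 := fun e => Units.ext (by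
    rw [Units.val_mul, ← e1, ← e2, ← map_mul, e, map_one, Units.val_one])
  rw [← e1, ← e2, ← map_mul]
  obtain ⟨θ, l⟩ := exists_l2 e.some
  rcases l7_cls l (π (g * g')) with ⟨h1, -⟩ | ⟨-, h1⟩
  · exact Or.inr (Or.inr (Or.inr (one (by_contra fun n =>
      h.l7_ne e h7 (hk _ (by rwa [map_pow])) n hr))))
  · exact (trace_cases h h2 (h1.imp (fun h => hk _ (by rwa [map_pow]))
      fun h => hk _ (by rwa [map_pow])) hr).imp_right (.imp_right (.imp_right one))

theorem tv_false {K0 : Subfield K} (n : NoTv ρ) (B : (M3 K)ˣ) {g : Γ} {v φ : V3 K0} (hv : v ≠ 0)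
    (hφ : φ ≠ 0) (h0 : φ ⬝ᵥ v = 0) (e : cnj ρ B g = (1 + vecMulVec v φ).map K0.subtype) :
    False := by
  have e1 : cnj ρ B g - 1 = (vecMulVec v φ).map K0.subtype := by
    rw [e, Matrix.map_add _ (map_add _), Matrix.map_one _ (map_zero _) (map_one _),
      add_sub_cancel_left]
  have e2 : ρ g - 1 = B.val * (cnj ρ B g - 1) * B⁻¹.val := by
    simp [cnj_apply, mul_sub, sub_mul, mul_assoc]
  have := n g (by
    rw [e2, mul_assoc, mul_assoc, ← mul_assoc B⁻¹.val, ← mul_assoc B⁻¹.val, Units.inv_mul, one_mul,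
      ← mul_assoc (_ - 1), e1, ← Matrix.map_mul, vv_mul, h0]
    simp)
  rw [this, map_one, sub_self] at e1
  rcases vv_eq_zero (Matrix.map_injective K0.subtype.injective
    (e1.symm.trans (Matrix.map_zero _ (map_zero _)).symm)) with e | e
  exacts [hv e, hφ e]

theorem not_sl (n : NoTv ρ) : ¬ IsSL ρ := by
  rintro ⟨K0, B, -, h⟩
  obtain ⟨g, e⟩ := h ⟨1 + vecMulVec (Pi.single 0 1) (Pi.single 1 1), by
    simp [det_fin_three, vecMulVec_apply]⟩
  exact tv_false n B (by simp) (by simp) (by simp) e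

theorem not_su [Finite K] (n : NoTv ρ) : ¬ IsSU ρ := by
  rintro ⟨K1, q, B, hq, -, -, h⟩
  letI := Fintype.ofFinite K1
  haveI : Fact (Fintype.card K1 = q ^ 2) := ⟨by rwa [← Nat.card_eq_fintype_card]⟩
  obtain ⟨v, w, h1, -, h2⟩ := exists_hyperbolic_pair (F := K1) (q := q) (n := 3) (by norm_num)
  obtain ⟨c, c0, hc⟩ := exists_skew (F := K1) (q := q)
  have v0 : v ≠ 0 := ne_zero_of_herm_right (by rw [h2]; exact one_ne_zero)
  obtain ⟨g, e⟩ := h (utSU h1 hc)
  rw [sm_utSU, unitaryTransvection_eq, rk1] at e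
  refine tv_false n B (smul_ne_zero c0 v0) (fun e => v0 (funext fun i => ?_)) ?_ e
  · simpa using congrFun e i
  · rw [dotProduct_comm, ← herm_eq_dot, herm_smul_left, h1, mul_zero]

end Cfsg.Agent.D5.R3c
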