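import Cfsg.Agent.DIM5.R3a
import Cfsg.Agent.DIM5.R3c
import Cfsg.Agent.H10.P3Stb

/-!
Reflection groups in dimension three.
-/

set_option autoImplicit false

open Matrix
open scoped MatrixGroups

namespace Cfsg.Agent.D5

open H10.P3 (M3 V3 co mkP rhoS mkP_eq mkP_eq_one)

variable {K : Type*} [Field K] [IsAlgClosed K] {Λ : Type*} [Group Λ] [Finite Λ] {τ : Λ →* M3 K}

omit [IsAlgClosed K] in
theorem det_refl3 {v f : V3 K} (h : f ⬝ᵥ v = 2) : (1 - vecMulVec v f).det = -1 := by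
  rw [sub_eq_add_neg, ← neg_vecMulVec, vecMulVec_eq Unit, det_one_add_replicateCol_mul_replicateRow,
    dotProduct_neg, h]
  norm_num

omit [IsAlgClosed K] [Finite Λ] in
theorem R3.det_sq (r : R3 τ) (g : Λ) : (τ g).det ^ 2 = 1 := by
  have := r.gen ((powMonoidHom 2).comp (Units.map detMonoidHom |>.comp τ.toHomUnits)).ker
    fun g v f h _ _ e => Units.ext (by simp [e, det_refl3 h])
  exact congrArg Units.val (MonoidHom.mem_ker.1 (this ▸ Subgroup.mem_top g))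

omit [IsAlgClosed K] in
theorem R3.exists_sl (r : R3 τ) : ∃ (K0 : Subfield K) (_ : Finite K0) (θ : Λ →* SL(3, K0)),
    ∀ g, (co K0 (θ g)).map K0.subtype = (τ g).det • τ g := by
  classical
  haveI := Fintype.ofFinite Λ
  obtain ⟨K0, h0, h1⟩ := r.lf (Finset.univ.image fun x : Λ × Fin 3 × Fin 3 =>
    ((τ x.1).det • τ x.1) x.2.1 x.2.2)
  have k : ∀ g, ∃ N : SL(3, K0), (co K0 N).map K0.subtype = (τ g).det • τ g := fun g => by
    obtain ⟨N, e, d⟩ := H10.P3.exists_of_entries K0 (M := (τ g).det • τ g) fun i j =>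
      h1 _ (Finset.mem_image.2 ⟨(g, i, j), Finset.mem_univ _, rfl⟩)
    exact ⟨⟨N, d (by
      rw [det_smul, Fintype.card_fin]; linear_combination ((τ g).det ^ 2 + 1) * r.det_sq g)⟩, e⟩
  choose θ hθ using k
  refine ⟨K0, h0, MonoidHom.mk' θ fun a b => Subtype.ext (Matrix.map_injective
    K0.subtype.injective ?_), hθ⟩
  change (co K0 (θ (a * b))).map _ = (co K0 (θ a * θ b)).map _
  rw [map_mul (co K0), Matrix.map_mul, hθ, hθ, hθ, map_mul, det_mul, smul_mul_smul_comm]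

section Sl

variable {K0 : Subfield K} {θ : Λ →* SL(3, K0)}

omit [IsAlgClosed K] [Finite Λ] in
theorem map_smul3 (c : K0) (M : M3 K0) : (c • M).map K0.subtype = (c : K) • M.map K0.subtype := by
  ext i j; simp

theorem R3.ab_bot (r : R3 τ) (hθ : ∀ g, (co K0 (θ g)).map K0.subtype = (τ g).det • τ g)
    (n : ¬ Mon3 τ) (N : Subgroup ((mkP K0).comp θ).range) (hN : N.Normal)
    (c : IsMulCommutative N) : N = ⊥ := by
  by_contra hb
  have d0 : ∀ g, (τ g).det * (τ g).det = 1 := fun g => sq (τ g).det ▸ r.det_sq g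
  refine n (r.mon_of_ab (N.comap ((mkP K0).comp θ).rangeRestrict) (fun a ha b hb => ?_) ?_)
  · obtain ⟨c, hc⟩ := mkP_eq.1 (show mkP K0 (θ (a * b)) = mkP K0 (θ (b * a)) by
      simpa using congrArg (fun x : N => x.1.1) (c.is_comm.comm ⟨_, ha⟩ ⟨_, hb⟩))
    have := congrArg (fun M => (τ (a * b)).det • M.map K0.subtype) hc
    simp only [map_smul3, hθ, smul_smul, d0, one_smul] at this
    exact ⟨_, this⟩
  · obtain ⟨⟨⟨_, a, rfl⟩, ha⟩, h1⟩ := (Subgroup.ne_bot_iff_exists_ne_one).1 hb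
    refine ⟨a, ha, fun c hc => h1 (Subtype.ext (Subtype.ext (mkP_eq_one.2
      ⟨_, H10.P3.map_eq_smul_one K0.subtype (c := (τ a).det * c) ?_⟩)))⟩
    rw [hθ, mul_smul, ← hc]

omit [IsAlgClosed K] [Finite Λ] in
theorem sl_refl (hθ : ∀ g, (co K0 (θ g)).map K0.subtype = (τ g).det • τ g) {v f : V3 K} {k : Λ}
    (h : f ⬝ᵥ v = 2) (hv : v ≠ 0) (hf : f ≠ 0) (e : τ k = 1 - vecMulVec v f) :
    (co K0 (θ k)).map K0.subtype = vecMulVec v f - 1 ∧ θ k * θ k = 1 ∧ mkP K0 (θ k) ≠ 1 := by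
  have e1 : (co K0 (θ k)).map K0.subtype = vecMulVec v f - 1 := by
    rw [hθ, e, det_refl3 h, neg_one_smul, neg_sub]
  refine ⟨e1, Subtype.ext (Matrix.map_injective K0.subtype.injective ?_), fun e2 => ?_⟩
  · change (co K0 (θ k * θ k)).map _ = (co K0 1).map _
    rw [map_mul, Matrix.map_mul, e1, ← neg_mul_neg, neg_sub, refl_sq3 h]; simp
  obtain ⟨c, hc⟩ := mkP_eq_one.1 e2
  rw [hc, map_smul3, Matrix.map_one _ (map_zero _) (map_one _), eq_sub_iff_add_eq] at e1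
  have e3 : vecMulVec v f = ((c : K) + 1) • 1 := by rw [← e1, add_smul, one_smul]
  have e4 := congrArg det e3
  rw [det_vecMulVec, det_smul, det_one, mul_one, eq_comm, pow_eq_zero_iff (by simp)] at e4
  rw [e4, zero_smul] at e3
  exact (H10.P3.vv_eq_zero e3).elim hv hf

theorem R3.even (r : R3 τ) [Finite K0] (hθ : ∀ g, (co K0 (θ g)).map K0.subtype = (τ g).det • τ g)
    (h2 : (2 : K) = 0) : Mon3 τ := by
  by_contra n
  obtain ⟨v, f, -, -, -, -, a, -⟩ := r.ns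
  obtain ⟨k, hk⟩ := a.2.2.2
  obtain ⟨e1, e2, e3⟩ := sl_refl hθ a.1 a.2.1 a.2.2.1 hk
  let z : ((mkP K0).comp θ).range := ⟨_, k, rfl⟩
  have z1 : z ≠ 1 := fun e => e3 (congrArg Subtype.val e)
  have z2 : z ^ 2 = 1 := Subtype.ext (by
    change mkP K0 (θ k) ^ 2 = 1
    rw [sq, ← map_mul, e2, map_one])
  haveI : Fact (Nat.Prime 2) := ⟨Nat.prime_two⟩
  refine (H42.zstar (z := z) ⟨orderOf_eq_prime z2 z1, ?_⟩).elim fun N ⟨hN, ho, hc⟩ => ?_
  swap
  · obtain rfl : N = ⊥ := by_contra fun hb =>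
      let ⟨M, _, _, h1, h2, _, h3, _⟩ := H2.exists_minimal_normal_le_of_solvable N hN
        (S0205.result ho) hb
      h2 (r.ab_bot hθ n M h1 h3)
    have hz : z ∈ Subgroup.center _ := Subgroup.mem_center_iff.2 fun g => by
      have := Subgroup.mem_bot.1 (hc g)
      rw [mul_inv_eq_one, mul_inv_eq_iff_eq_mul] at this
      exact this.symm
    exact z1 (Subgroup.mem_bot.1 (r.ab_bot hθ n (Subgroup.center _) inferInstance inferInstance ▸ hz))
  rintro ⟨_, g, rfl⟩ hc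
  have b := a.conj g
  have hk' : τ (g * k * g⁻¹) = 1 - vecMulVec (τ g *ᵥ v) (f ᵥ* τ g⁻¹) := by
    rw [map_mul, map_mul, hk, mul_sub, sub_mul, mul_one, H10.P3.mul_inv_rho, mul_vecMulVec,
      vecMulVec_mul]
  have hc' : mkP K0 (θ k * θ (g * k * g⁻¹)) = mkP K0 (θ (g * k * g⁻¹) * θ k) := by
    simp only [map_mul, map_inv]
    exact congrArg Subtype.val hc.eq
  suffices mkP K0 (θ (g * k * g⁻¹)) = mkP K0 (θ k) by
    simp only [map_mul, map_inv] at this
    exact Subtype.ext this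
  generalize g * k * g⁻¹ = k', τ g *ᵥ v = w, f ᵥ* τ g⁻¹ = φ at b hk' hc'
  obtain ⟨e4, e5, -⟩ := sl_refl hθ b.1 b.2.1 b.2.2.1 hk'
  suffices vecMulVec w φ = vecMulVec v f from congrArg _ (Subtype.ext (Matrix.map_injective
    K0.subtype.injective (e4.trans (this ▸ e1.symm))))
  obtain ⟨c, hc⟩ := mkP_eq.1 hc'
  have c3 := H10.P3.cube_of_smul hc (θ k * θ k').2 (θ k' * θ k).2
  have c2 : c * c = 1 := by
    have t := congrArg (fun M => co K0 (θ k) * M) hc
    simp only [← map_mul (co K0), mul_smul_comm, ← mul_assoc, e2, one_mul] at t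
    have := congrArg₂ (· * ·) t t
    simp only [smul_mul_smul_comm, ← map_mul (co K0), e5] at this
    rw [show θ k * θ k' * θ k * (θ k * θ k' * θ k) = θ k * θ k' * (θ k * θ k) * θ k' * θ k by group,
      e2, mul_one, mul_assoc (θ k), e5, mul_one, e2, map_one] at this
    exact (H10.P3.smul_one_inj ((one_smul _ _).trans this)).symm
  obtain rfl : c = 1 := by linear_combination c3 - c * c2
  replace hc := congrArg (·.map K0.subtype) hc
  simp only [one_smul, map_mul (co K0), Matrix.map_mul, e1, e4, mul_sub, sub_mul, one_mul, mul_one,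
    H10.P3.vv_mul] at hc
  have e6 : (f ⬝ᵥ w) • vecMulVec v φ = (φ ⬝ᵥ v) • vecMulVec w f := by
    linear_combination (norm := module) hc
  have a0 : f ⬝ᵥ v = 0 := a.1.trans h2
  have b0 : φ ⬝ᵥ w = 0 := b.1.trans h2
  have e7 : f ⬝ᵥ w = 0 := by
    obtain ⟨y, hy⟩ := H10.P3.exists_dot_ne_zero a.2.2.1
    have := congrArg (fun M => f ⬝ᵥ (M *ᵥ y)) e6
    simp only [smul_mulVec, H10.P3.vv_mulVec, dotProduct_smul, a0, smul_eq_mul, mul_zero] at this
    rw [dotProduct_comm] at hy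
    by_contra h
    have h' : φ ⬝ᵥ v ≠ 0 := fun e => h (r.zero b a e)
    exact mul_ne_zero h' (mul_ne_zero hy h) this.symm
  by_cases hw : ∃ c : K, w = c • v
  · obtain ⟨c, rfl⟩ := hw
    have hc : c ≠ 0 := by rintro rfl; exact b.2.1 (zero_smul _ _)
    rw [r.ctr b (a.smul hc), smul_vecMulVec, vecMulVec_smul, smul_inv_smul₀ hc]
  push Not at hw
  obtain ⟨c, rfl⟩ := H10.P3.exists_smul_of_dot a.2.1 hw a.2.2.1 e7 a0 b0 (r.zero a b e7)
  have hc : c ≠ 0 := by rintro rfl; exact b.2.2.1 (zero_smul _ _)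
  have := a.smul (inv_ne_zero hc)
  rw [inv_inv] at this
  rw [r.axs b this, smul_vecMulVec, vecMulVec_smul, inv_smul_smul₀ hc]

end Sl

omit [IsAlgClosed K] in
theorem trace_refl2 {v f w g : V3 K} (a : f ⬝ᵥ v = 2) (b : g ⬝ᵥ w = 2) :
    ((vecMulVec v f - 1) * (vecMulVec w g - 1)).trace = (f ⬝ᵥ w) * (g ⬝ᵥ v) - 1 := by
  simp only [mul_sub, sub_mul, H10.P3.vv_mul, H10.P3.trace_vv, a, b, mul_one, one_mul, trace_sub,
    trace_smul, trace_one, smul_eq_mul, Fintype.card_fin]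
  push_cast; ring

theorem R3.cases (r : R3 τ) : Mon3 τ ∨
    (∀ v f w g, D3 τ v f → D3 τ w g → (f ⬝ᵥ w) * (g ⬝ᵥ v) = 0 ∨ (f ⬝ᵥ w) * (g ⬝ᵥ v) = 1 ∨
      (f ⬝ᵥ w) * (g ⬝ᵥ v) = 2 ∨ vecMulVec v f = vecMulVec w g) ∨
    ((2 : K) ≠ 0 ∧ (3 : K) ≠ 0 ∧ ∃ ζ : K, ζ ^ 2 - ζ + 1 = 0 ∧ ∃ k, τ k = ζ • 1) := by
  obtain ⟨K0, _, θ, hθ⟩ := r.exists_sl
  by_cases h2 : (2 : K) = 0
  · exact Or.inl (r.even hθ h2)
  refine or_iff_not_imp_left.2 fun n => ?_
  have cast : ∀ n : ℕ, (n : K0) = 0 ↔ (n : K) = 0 := fun n => by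
    rw [← map_natCast K0.subtype, map_eq_zero]
  have h2' : (2 : K0) ≠ 0 := fun e => h2 ((cast 2).1 e)
  obtain ⟨v, f, w, g, u, h, a, b, c, ns⟩ := r.ns
  have R : ∀ {v f}, D3 τ v f → ∃ k, τ k = 1 - vecMulVec v f ∧
      (co K0 (θ k)).map K0.subtype = vecMulVec v f - 1 ∧ θ k * θ k = 1 ∧ mkP K0 (θ k) ≠ 1 :=
    fun a => let ⟨k, hk⟩ := a.2.2.2; ⟨k, hk, sl_refl hθ a.1 a.2.1 a.2.2.1 hk⟩
  obtain ⟨k, hk, k1, k2, k3⟩ := R a
  obtain ⟨T, G, π, hT, hy, nr, inn⟩ := H10.P3.setup h2' ((mkP K0).comp θ).range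
    (fun e => k3 (Subgroup.mem_bot.1 (e ▸ ⟨k, rfl⟩))) fun N hN c _ => r.ab_bot hθ n N hN c
  replace nr := fun k => nr (θ k) ⟨k, rfl⟩
  have sq : ∀ {k}, θ k * θ k = 1 → SpecialLinearGroup.toGL (θ k) * SpecialLinearGroup.toGL (θ k) =
      1 := fun e => by rw [← map_mul, e, map_one]
  have lift : ∀ x : G, ∃ k, τ k = (rhoS G x).map K0.subtype := fun x => by
    let σ := H10.P3.ext K0.subtype (rhoS G)
    have l : ∀ x : G, ∃ (k : Λ) (c : K), σ x = c • τ k := fun x => by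
      obtain ⟨k, e⟩ := hT ((inn x).2 ⟨1, x, (one_smul _ _).symm⟩)
      obtain ⟨c, e⟩ := mkP_eq.1 e.symm
      exact ⟨k, c * (τ k).det, by rw [mul_smul, ← hθ, ← map_smul3, ← e]; rfl⟩
    let S : Subgroup G :=
      { carrier := {x | ∃ k, τ k = σ x}
        one_mem' := ⟨1, by simp⟩
        mul_mem' := fun ⟨a, ha⟩ ⟨b, hb⟩ => ⟨a * b, by simp [ha, hb]⟩
        inv_mem' := fun {x} ⟨a, ha⟩ => ⟨a⁻¹, by
          rw [← mul_one (τ a⁻¹), ← H10.P3.mul_inv_rho σ x, ← ha, ← mul_assoc, H10.P3.inv_mul_rho,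
            one_mul]⟩ }
    refine (Subgroup.commutator_le.2 fun x _ y _ => ?_ : commutator G ≤ S) (hy.perfect.ge trivial)
    obtain ⟨a, c, ha⟩ := l x
    obtain ⟨b, d, hb⟩ := l y
    refine ⟨a * b * a⁻¹ * b⁻¹, (H10.P3.isUnit_rho σ (y * x)).mul_right_cancel ?_⟩
    rw [← map_mul σ, commutatorElement_def, show x * y * x⁻¹ * y⁻¹ * (y * x) = x * y by group,
      map_mul σ, map_mul σ, ha, hb, smul_mul_smul_comm, smul_mul_smul_comm, mul_smul_comm,
      ← map_mul, ← map_mul, ← map_mul, mul_comm d]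
    congr 2; group
  have nt : H10.P3.NoTv (rhoS G) := fun x e => by
    obtain ⟨k, hk⟩ := lift x
    obtain ⟨v, φ, e1, e2⟩ := H10.P3.exists_vv_of_sq (N := τ k - 1) (by
      have := congrArg (·.map K0.subtype) e
      simp only [Matrix.map_mul, Matrix.map_sub _ (map_sub _), ← hk] at this
      simpa using this)
    refine hy.inj (Matrix.map_injective K0.subtype.injective ?_)
    have : τ k - 1 = 0 := by
      rcases r.notv h2 k v φ e2 (by rw [← e1]; simp) with rfl | rfl <;> simp [e1]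
    change (rhoS G x).map _ = (rhoS G 1).map _
    rw [← hk, sub_eq_zero.1 this]; simp
  have six : (3 : K0) ≠ 0 → H10.P3.IsAlt 6 T ∨ H10.P3.IsAlt 7 T →
      H10.P3.Inn (rhoS G) (SpecialLinearGroup.toGL (θ k)) →
      (2 : K) ≠ 0 ∧ (3 : K) ≠ 0 ∧ ∃ ζ : K, ζ ^ 2 - ζ + 1 = 0 ∧ ∃ k, τ k = ζ • 1 := by
    rintro h3 e ⟨c, x, hx⟩
    obtain ⟨z, ω, o1, o2, hz⟩ := R3c.omega hy h2' h3 e
    obtain ⟨a, ha⟩ := lift z
    obtain ⟨b, hb⟩ := lift x
    have c3 : c ^ 3 = 1 := H10.P3.cube_of_smul hx (θ k).2 (hy.det x)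
    have e1 : τ (k * b⁻¹) = (-c : K) • 1 := by
      rw [map_mul, hk, ← neg_sub, ← k1, show co K0 (θ k) = _ from hx, map_smul3, ← hb, neg_mul,
        smul_mul_assoc, H10.P3.mul_inv_rho, neg_smul]
    refine ⟨h2, fun e => h3 ((cast 3).2 e), -ω, ?_, (k * b⁻¹) ^ 3 * a, ?_⟩
    · have : (ω : K) ^ 3 = 1 := by exact_mod_cast o1
      exact mul_left_cancel₀ (sub_ne_zero.2 (show (ω : K) ≠ 1 by exact_mod_cast o2))
        (by linear_combination this)
    · have : (c : K) ^ 3 = 1 := by exact_mod_cast c3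
      rw [map_mul, map_pow, e1, ha, hz, map_smul3, Matrix.map_one _ (map_zero _) (map_one _),
        smul_pow, one_pow, smul_mul_smul_comm, mul_one, Odd.neg_pow (by decide), this, neg_one_mul]
  have tr : ∀ M : M3 K0, (M.trace : K) = (M.map K0.subtype).trace :=
    fun M => AddMonoidHom.map_trace K0.subtype M
  rcases hy.classify with e | e | ⟨-, e⟩ | ⟨h7, e⟩ | ⟨h3, e⟩ | e
  · exact (R3c.not_sl nt e).elim
  · exact (R3c.not_su nt e).elim
  · obtain ⟨k', -, l1, l2, -⟩ := R b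
    obtain ⟨k'', -, m1, m2, -⟩ := R c
    have t : ∀ {k v f}, f ⬝ᵥ v = 2 → (co K0 (θ k)).map K0.subtype = vecMulVec v f - 1 →
        (co K0 (θ k)).trace ≠ 0 := fun h e e' => by
      have := tr (co K0 (θ _)) ▸ congrArg trace e
      rw [e'] at this
      rw [trace_sub, H10.P3.trace_vv, h] at this
      norm_num at this
    have := congrArg K0.subtype (R3c.real_tri hy h2' e (fun i => SpecialLinearGroup.toGL
      (θ (![k, k', k''] i))) fun i => ⟨nr _, by
        fin_cases i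
        exacts [⟨sq k2, t a.1 k1⟩, ⟨sq l2, t b.1 l1⟩, ⟨sq m2, t c.1 m1⟩]⟩)
    change ((co K0 (θ k) * co K0 (θ k') * co K0 (θ k'')).trace : K) =
      (co K0 (θ k'') * (co K0 (θ k') * co K0 (θ k))).trace at this
    simp only [tr, Matrix.map_mul, k1, l1, m1, mul_sub, sub_mul, H10.P3.vv_mul, one_mul, mul_one,
      smul_mul_assoc, mul_smul_comm, trace_sub, trace_smul, H10.P3.trace_vv, smul_eq_mul] at this
    exact (ns (by linear_combination this)).elim
  · refine Or.inl fun v f w g a b => ?_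
    obtain ⟨k, -, k1, k2, -⟩ := R a
    obtain ⟨k', -, l1, l2, -⟩ := R b
    have t := tr (co K0 (θ k) * co K0 (θ k'))
    rw [Matrix.map_mul, k1, l1, trace_refl2 a.1 b.1] at t
    rcases R3c.l7_pair hy e h2' h7 ⟨nr k, sq k2, (θ k).2⟩ ⟨nr k', sq l2, (θ k').2⟩ with
      e | e | e | e
    · exact Or.inl (by
        rw [show (co K0 (θ k) * co K0 (θ k')).trace = -1 from e] at t
        push_cast at t; linear_combination -t)
    · exact Or.inr (Or.inl (by
        rw [show (co K0 (θ k) * co K0 (θ k')).trace = 0 from e] at t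
        push_cast at t; linear_combination -t))
    · exact Or.inr (Or.inr (Or.inl (by
        rw [show (co K0 (θ k) * co K0 (θ k')).trace = 1 from e] at t
        push_cast at t; linear_combination -t)))
    · have : θ k = θ k' := SpecialLinearGroup.toGL_injective
        (mul_left_cancel ((sq k2).trans e.symm))
      exact Or.inr (Or.inr (Or.inr (sub_left_injective (k1.symm.trans (this ▸ l1)))))
  · exact Or.inr (six h3 (Or.inl e) (R3c.a6_inn hy e h2' h3 (nr k) (sq k2)))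
  · have h5 := hy.a7_five e
    exact Or.inr (six (fun e => one_ne_zero (α := K0) (by linear_combination 2 * e - h5))
      (Or.inr e) ((hy.a7_inn e).2 _ (nr k)))

end Cfsg.Agent.D5
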