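import Cfsg.Agent.DIM5.RMono
import Cfsg.Agent.DIM5.DK

/-!
A scalar of order six on the block forces the block to be monomial.
-/

set_option autoImplicit false

open Matrix

namespace Cfsg.Agent.D5

open H10.P3 (M3 V3)

variable {K : Type*} [Field K] {Γ : Type*} [Group Γ] {ρ : Γ →* M5 K} {u v w f g h : V5 K}

theorem nil_two {N : Matrix (Fin 2) (Fin 2) K} (h : N * N = 0) :
    ∃ y χ : Fin 2 → K, χ ⬝ᵥ y = 0 ∧ N = vecMulVec y χ := by
  have k := fun i j => congrFun (congrFun h i) j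
  have k00 := k 0 0
  have k01 := k 0 1
  have k11 := k 1 1
  simp only [Matrix.mul_apply, Fin.sum_univ_two, Matrix.zero_apply] at k00 k01 k11
  by_cases e : N 0 1 = 0
  · rw [e] at k00 k11
    refine ⟨![0, N 1 0], ![1, 0], by simp, ?_⟩
    ext i j
    fin_cases i <;> fin_cases j <;> simp_all
  · have t : N 1 1 = -N 0 0 := mul_left_cancel₀ e (by linear_combination k01)
    refine ⟨![N 0 1, -N 0 0], ![N 0 0 / N 0 1, 1], by simp [e], ?_⟩
    ext i j
    fin_cases i <;> fin_cases j <;> simp [t] <;> field_simp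
    linear_combination k00

theorem in_plane {P : Matrix (Fin 5) (Fin 2) K} {Q : Matrix (Fin 2) (Fin 5) K} (hQ : Q * P = 1)
    {s : Set (Matrix (Fin 2) (Fin 2) K)} (hs : ∀ M ∈ s, In ρ (1 + P * (M - 1) * Q))
    {M : Matrix (Fin 2) (Fin 2) K} (hM : M ∈ Submonoid.closure s) : In ρ (1 + P * (M - 1) * Q) := by
  induction hM using Submonoid.closure_induction with
  | mem M hM => exact hs M hM
  | one => simpa using In.one
  | mul M N _ _ h1 h2 =>
    have : P * (M - 1) * Q * (P * (N - 1) * Q) = P * ((M - 1) * (N - 1)) * Q := by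
      simp only [Matrix.mul_assoc]
      rw [← Matrix.mul_assoc Q, hQ, Matrix.one_mul]
    convert h1.mul h2 using 1
    rw [add_mul, mul_add, mul_add, this,
      show M * N - 1 = (N - 1) + (M - 1) + (M - 1) * (N - 1) by noncomm_ring]
    simp only [Matrix.mul_add, Matrix.add_mul, one_mul, mul_one]
    abel

/-- The value of the inner pairing of a root that is moved by a scalar of order six. -/
theorem sigma_one [IsAlgClosed K] (lf : LF K) (n : NoTv ρ) (h2 : (2 : K) ≠ 0) (h3 : (3 : K) ≠ 0)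
    {ζ : K} (hζ : ζ ^ 2 - ζ + 1 = 0) {a b α β : V5 K} (e1 : α ⬝ᵥ b = 0) (e2 : β ⬝ᵥ a = 0)
    (a0 : a ≠ 0) (α0 : α ≠ 0) (b0 : b ≠ 0) (β0 : β ≠ 0) {c : Γ} (c1 : ρ c *ᵥ a = ζ • a)
    (c2 : ρ c *ᵥ b = b) (c3 : β ᵥ* ρ c = β) (c4 : ρ c⁻¹ *ᵥ a = ζ⁻¹ • a)
    (t : ∀ k : ℤ, D ρ (ζ ^ k • a + b) ((ζ ^ k)⁻¹ • α + β)) : α ⬝ᵥ a = 1 := by
  have z0 : ζ ≠ 0 := by rintro rfl; simp at hζ
  have z1 : 1 - ζ ≠ 0 := fun e => one_ne_zero (α := K) (by linear_combination hζ + ζ * e)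
  have z2 : ζ ^ 2 - 1 ≠ 0 := fun e => h3 (by linear_combination (ζ + 2) * hζ - (ζ + 1) * e)
  have t0 : D ρ (a + b) (α + β) := by simpa using t 0
  have e0 : β ⬝ᵥ b = 2 - α ⬝ᵥ a := by
    have := t0.1
    simp only [add_dotProduct, dotProduct_add, e1, e2] at this
    linear_combination this
  by_contra s1
  by_cases s2 : α ⬝ᵥ a = 2
  · have e0' : β ⬝ᵥ b = 0 := by rw [e0, s2, sub_self]
    obtain ⟨k, hk⟩ := t0.mul_scale z0 (by simpa using t 1) e0' e1 e2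
    have T1 := hs_kill e0' (by simp [e1]) (by simp [e2]) hk c2 c3
    simp only [mulVec_smul, c1, c4, smul_dotProduct, dotProduct_smul, s2, smul_eq_mul] at T1
    refine n _ _ ⟨T1, b0, smul_ne_zero (fun e => ?_) β0⟩
    field_simp at e
    exact mul_ne_zero (mul_ne_zero (mul_ne_zero z1 z1) h2) z2 (by linear_combination e)
  by_cases s0 : α ⬝ᵥ a = 0
  · have t0' : D ρ (b + a) (β + α) := by rwa [add_comm, add_comm β]
    have k : ∀ k : ℤ, D ρ (ζ ^ k • b + a) ((ζ ^ k)⁻¹ • β + α) := fun k =>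
      ((t (-k)).smul (zpow_ne_zero k z0)).of_eq
        (by simp [smul_smul, zpow_ne_zero k z0, add_comm])
        (by simp [smul_smul, zpow_ne_zero k z0, add_comm])
    obtain ⟨k1, h1⟩ := t0'.mul_scale z0 (by simpa using k 1) s0 e2 e1
    obtain ⟨k2, h2'⟩ := t0'.mul_scale (inv_ne_zero z0) (by simpa using k (-1)) s0 e2 e1
    have T1 := hs_comm s0 (by simp [e2]) (by simp [e1]) (by simp [e2]) (by simp [e1]) h1 h2'
    simp only [smul_dotProduct, dotProduct_smul, e0, s0, smul_eq_mul, inv_inv] at T1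
    refine n _ _ ⟨T1, a0, smul_ne_zero (fun e => ?_) α0⟩
    field_simp at e
    exact mul_ne_zero (mul_ne_zero (mul_ne_zero z1 z1) h2) z2 (by linear_combination e)
  obtain ⟨M, hM, m1, m2⟩ := dk2 lf h2 h3 hζ s0 s1 s2
  have s3 : 2 - α ⬝ᵥ a ≠ 0 := sub_ne_zero.2 (Ne.symm s2)
  have hQ : (of ![(α ⬝ᵥ a)⁻¹ • α, (2 - α ⬝ᵥ a)⁻¹ • β]) * (of ![a, b])ᵀ =
      (1 : Matrix (Fin 2) (Fin 2) K) := by
    ext i j
    change (![(α ⬝ᵥ a)⁻¹ • α, (2 - α ⬝ᵥ a)⁻¹ • β] i) ⬝ᵥ (![a, b] j) = _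
    fin_cases i <;> fin_cases j <;> simp [s0, e0, e1, e2, s3]
  obtain ⟨k, hk⟩ := in_plane (ρ := ρ) hQ (by
    rintro _ ⟨k, rfl⟩
    convert (t k).isIn using 1
    rw [sub_sub_cancel_left, Matrix.mul_neg, Matrix.neg_mul, mul_vecMulVec, vecMulVec_mul,
      ← sub_eq_add_neg]
    congr 2
    · ext i; simp [mulVec, dotProduct, mul_comm]
    · ext i
      simp only [vecMul, dotProduct, Fin.sum_univ_two, of_apply, cons_val_zero, cons_val_one,
        Pi.smul_apply, Pi.add_apply, smul_eq_mul, zpow_natCast, inv_pow]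
      rw [show (∑ i, α i * a i) = α ⬝ᵥ a from rfl]
      field_simp) hM
  obtain ⟨y, χ, p, q⟩ := nil_two m2
  rw [q, mul_vecMulVec, vecMulVec_mul] at hk
  refine n _ _ ⟨⟨?_, k, hk⟩, fun z => m1 ?_, fun z => m1 ?_⟩
  · rw [← dotProduct_mulVec, mulVec_mulVec, hQ, one_mulVec, p]
  · have := congrArg (of ![(α ⬝ᵥ a)⁻¹ • α, (2 - α ⬝ᵥ a)⁻¹ • β] *ᵥ ·) z
    simp only [mulVec_mulVec, hQ, one_mulVec, mulVec_zero] at this
    simpa [this, sub_eq_zero] using q
  · have := congrArg (· ᵥ* (of ![a, b])ᵀ) z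
    simp only [vecMul_vecMul, hQ, vecMul_one, zero_vecMul] at this
    simpa [this, sub_eq_zero] using q

theorem in_delta {a b α β : V5 K} {η : K} (h0 : η ≠ 0) (e1 : α ⬝ᵥ b = 0) (e2 : β ⬝ᵥ a = 0)
    (s : α ⬝ᵥ a = 1) (t : D ρ (a + b) (α + β)) (t' : D ρ (η • a + b) (η⁻¹ • α + β)) :
    In ρ (1 + (η⁻¹ - 1) • vecMulVec a α + (η - 1) • vecMulVec b β) := by
  have e0 : β ⬝ᵥ b = 1 := by
    have := t.1
    simp only [add_dotProduct, dotProduct_add, e1, e2, s] at this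
    linear_combination this
  convert t.isIn.mul t'.isIn using 1
  simp only [mul_sub, sub_mul, one_mul, mul_one, vv_mul, add_dotProduct, dotProduct_add,
    dotProduct_smul, e0, e1, e2, s, smul_eq_mul]
  simp only [add_vecMulVec, vecMulVec_add, smul_vecMulVec, vecMulVec_smul]
  match_scalars <;> field_simp <;> ring

/-- Two idempotents with the same outer part and inverse pairings coincide. -/
theorem idem_eq (n : NoTv ρ) {ζ : K} (z0 : ζ ≠ 0) (z2 : ζ ^ 2 - 1 ≠ 0) {a d b α h β : V5 K}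
    (e0 : β ⬝ᵥ b = 1) (e1 : α ⬝ᵥ b = 0) (e2 : β ⬝ᵥ a = 0) (e3 : h ⬝ᵥ b = 0) (s : α ⬝ᵥ a = 1)
    (s1 : α ⬝ᵥ d = 0) (s2 : h ⬝ᵥ a = 0) (s3 : h ⬝ᵥ d = 0)
    (t : ∀ η, η = ζ ∨ η = ζ⁻¹ → In ρ (1 + (η⁻¹ - 1) • vecMulVec a α + (η - 1) • vecMulVec b β))
    (t' : ∀ η, η = ζ ∨ η = ζ⁻¹ →
      In ρ (1 + (η⁻¹ - 1) • vecMulVec (a + d) (α + h) + (η - 1) • vecMulVec b β)) : d = 0 := by
  have z1 : 1 - ζ ≠ 0 := fun e => z2 (by linear_combination (-1 - ζ) * e)
  have k : ∀ η, η ≠ 0 → (η = ζ ∨ η = ζ⁻¹) → ∃ k, ρ k = 1 + vecMulVec d ((1 - η) • α) +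
      vecMulVec ((η⁻¹ - 1) • a) h + (η⁻¹ - 1) • vecMulVec d h := fun η h0 hη => by
    obtain ⟨k, hk⟩ := (t' η hη).mul (t η⁻¹ (hη.elim (fun e => Or.inr (by rw [e]))
      fun e => Or.inl (by rw [e, inv_inv])))
    refine ⟨k, hk.trans ?_⟩
    simp only [mul_add, add_mul, one_mul, mul_one, smul_mul_assoc, mul_smul_comm, vv_mul,
      add_dotProduct, e0, e1, e2, e3, s, s2, inv_inv]
    simp only [add_vecMulVec, vecMulVec_add, smul_vecMulVec, vecMulVec_smul]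
    match_scalars <;> field_simp <;> ring
  obtain ⟨k1, h1⟩ := k ζ z0 (Or.inl rfl)
  obtain ⟨k2, h2⟩ := k ζ⁻¹ (inv_ne_zero z0) (Or.inr rfl)
  have T1 := hs_comm s3 (by simp [s1]) (by simp [s2]) (by simp [s1]) (by simp [s2]) h1 h2
  refine (n.kill s3 (by simp [s1]) (by simp [s2]) h1 (fun e => ?_) T1
    (smul_ne_zero z1 (by rintro rfl; simp at s)) (smul_ne_zero (fun e => z1 ?_)
      (by rintro rfl; simp at s))).1
  · simp only [smul_dotProduct, dotProduct_smul, s, smul_eq_mul, inv_inv] at e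
    field_simp at e
    exact mul_ne_zero (mul_ne_zero z1 z1) z2 (by linear_combination -e)
  · field_simp at e
    linear_combination e

/-- A root in block coordinates. -/
structure Mx (ρ : Γ →* M5 K) (e x : Fin 3 → V5 K) (a α : V3 K) (b β : V5 K) : Prop where
  hb : of x *ᵥ b = 0
  hβ : β ᵥ* (of e)ᵀ = 0
  d : D ρ ((of e)ᵀ *ᵥ a + b) (α ᵥ* of x + β)

section
variable {e x : Fin 3 → V5 K} {a α a' α' : V3 K} {b β : V5 K}

theorem blk_up (d : Du e x) (M : M3 K) (a : V3 K) :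
    blk3 e x M *ᵥ ((of e)ᵀ *ᵥ a) = (of e)ᵀ *ᵥ (M *ᵥ a) := by
  rw [blk3, add_mulVec, one_mulVec, ← mulVec_mulVec, mulVec_mulVec _ (of x), d.mul3, one_mulVec,
    ← mulVec_mulVec, ← mulVec_add, sub_mulVec, one_mulVec, add_sub_cancel]

theorem up_blk (d : Du e x) (M : M3 K) (a : V3 K) :
    (a ᵥ* of x) ᵥ* blk3 e x M = (a ᵥ* M) ᵥ* of x := by
  simp [blk3, Matrix.mul_add, ← Matrix.mul_assoc, d.mul3, Matrix.sub_mul]

theorem Mx.blk_b (m : Mx ρ e x a α b β) (M : M3 K) : blk3 e x M *ᵥ b = b := by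
  rw [blk3, add_mulVec, ← mulVec_mulVec, m.hb]; simp

theorem Mx.blk_β (m : Mx ρ e x a α b β) (M : M3 K) : β ᵥ* blk3 e x M = β := by
  rw [blk3, vecMul_add, ← vecMul_vecMul, ← vecMul_vecMul, m.hβ]; simp

theorem Mx.e1 (m : Mx ρ e x a α b β) (η : V3 K) : (η ᵥ* of x) ⬝ᵥ b = 0 := by
  rw [← dotProduct_mulVec, m.hb, dotProduct_zero]

theorem Mx.e2 (m : Mx ρ e x a α b β) (y : V3 K) : β ⬝ᵥ ((of e)ᵀ *ᵥ y) = 0 := by
  rw [dotProduct_mulVec, m.hβ, zero_dotProduct]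

theorem Mx.conj (m : Mx ρ e x a α b β) (d : Du e x) {k : Γ} {M N : M3 K} (h1 : ρ k = blk3 e x M)
    (h2 : ρ k⁻¹ = blk3 e x N) : Mx ρ e x (M *ᵥ a) (α ᵥ* N) b β :=
  ⟨m.hb, m.hβ, by
    have := m.d.conj k
    rwa [h1, h2, mulVec_add, add_vecMul, blk_up d, up_blk d, m.blk_b, m.blk_β] at this⟩

theorem Mx.zero (m : Mx ρ e x a α b β) (r : RH ρ) (B : GB ρ e x) : (a = 0 ↔ α = 0) := by
  have d := B.du
  have R := r.r3 B
  obtain ⟨w, g, -, -, -, -, t, -⟩ := R.ns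
  constructor
  · rintro rfl
    have k : ∀ w g, D3 (d.tau ρ) w g → α ⬝ᵥ w = 0 := fun w g t => by
      simpa only [add_dotProduct, d.dot_up, m.e2, add_zero] using
        r.zero (d.d3_iff.1 t) m.d (by simp only [mulVec_zero, zero_add, m.e1])
    rcases R.tirr (LinearMap.ker (dotProductBilin K K α)) (fun w g t y hy =>
      sub_mem hy (Submodule.smul_mem _ _ (k w g t))) with z | z
    · exact (t.2.1 ((Submodule.mem_bot K).1 (z ▸ k w g t))).elim
    · funext i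
      simpa using (z ▸ Submodule.mem_top : Pi.single i 1 ∈ LinearMap.ker (dotProductBilin K K α))
  · rintro rfl
    let W : Submodule K (V3 K) :=
      { carrier := {y | ∀ w g, D3 (d.tau ρ) w g → g ⬝ᵥ y = 0}
        add_mem' := fun h1 h2 w g t => by rw [dotProduct_add, h1 w g t, h2 w g t, add_zero]
        zero_mem' := fun _ _ _ => dotProduct_zero _
        smul_mem' := fun c _ h1 w g t => by rw [dotProduct_smul, h1 w g t, smul_zero] }
    rcases R.tirr W (fun w g t y hy => by rwa [hy w g t, zero_smul, sub_zero]) with z | z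
    · refine (Submodule.mem_bot K).1 (z ▸ fun w g t => ?_ : a ∈ (⊥ : Submodule K (V3 K)))
      simpa only [dotProduct_add, d.dot_up, m.e1, add_zero] using
        r.zero m.d (d.d3_iff.1 t) (by simp only [zero_vecMul, zero_add, m.e2])
    · exact (t.2.2.1 (funext fun i => by
        simpa using (z ▸ Submodule.mem_top : Pi.single i 1 ∈ W) w g t)).elim

end

variable [IsAlgClosed K] [Finite Γ] {e x : Fin 3 → V5 K}

theorem RH.caseA (r : RH ρ) (b : GB ρ e x) (c : CA ρ e x) : MonB ρ e x := by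
  have d := b.du
  have R := r.r3 b
  obtain ⟨h2, h3, ζ, hζ, c, hc⟩ := c
  have n := r.notv h2
  have z0 : ζ ≠ 0 := by rintro rfl; simp at hζ
  have z1 : ζ ≠ 1 := by rintro rfl; simp at hζ
  have z2 : ζ ^ 2 - 1 ≠ 0 := fun e => h3 (by linear_combination (ζ + 2) * hζ - (ζ + 1) * e)
  replace hc : ρ c = blk3 e x (ζ • 1) := by
    rw [hc, blk3, show ζ • (1 : M3 K) - 1 = (ζ - 1) • 1 by rw [sub_smul, one_smul],
      Matrix.mul_smul, Matrix.smul_mul, Matrix.mul_one]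
    congr 2
  have hc' : ρ c⁻¹ = blk3 e x (ζ⁻¹ • 1) :=
    rho_inv_eq (by rw [hc, d.blk_mul]; simp [smul_smul, z0, blk3])
  have sc : ∀ {a α b β}, Mx ρ e x a α b β → ∀ k : ℤ,
      Mx ρ e x (ζ ^ k • a) ((ζ ^ k)⁻¹ • α) b β := fun {a α b β} m k => by
    induction k using Int.induction_on with
    | zero => simpa using m
    | succ k ih =>
      simpa [smul_mulVec, vecMul_smul, smul_smul, zpow_add₀ z0, mul_comm] using ih.conj d hc hc'
    | pred k ih =>
      have := ih.conj d hc' (N := ζ • 1) (by rw [inv_inv, hc])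
      rw [vecMul_smul, vecMul_one] at this
      simpa [smul_mulVec, smul_smul, zpow_sub₀ z0, div_eq_mul_inv, mul_comm] using this
  have sc' : ∀ {a α b β}, Mx ρ e x a α b β → ∀ k : ℤ,
      D ρ (ζ ^ k • (of e)ᵀ *ᵥ a + b) ((ζ ^ k)⁻¹ • α ᵥ* of x + β) := fun m k => by
    simpa only [mulVec_smul, smul_vecMul] using (sc m k).d
  have oz : ∀ {a α b β}, Mx ρ e x a α b β → b = 0 ∨ β = 0 → b = 0 ∧ β = 0 := fun m =>
    r.toTame.outer_zero z0 z1 m.d (by simpa using sc' m 1)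
  have s1 : ∀ {a α b β}, Mx ρ e x a α b β → a ≠ 0 → b ≠ 0 → α ⬝ᵥ a = 1 :=
    fun {a α b β} m a0 b0 => by
    rw [← d.dot_up]
    exact sigma_one r.lf n h2 h3 hζ (m.e1 _) (m.e2 _)
      (fun z => a0 (d.up_inj (by simpa using z)))
      (fun z => a0 ((m.zero r ‹_›).2 (d.up_inj' (by simpa using z)))) b0
      (fun z => b0 (oz m (Or.inr z)).1) (c := c)
      (by rw [hc, blk_up d, smul_mulVec, one_mulVec, mulVec_smul]) (by rw [hc, m.blk_b])
      (by rw [hc, m.blk_β]) (by rw [hc', blk_up d, smul_mulVec, one_mulVec, mulVec_smul]) (sc' m)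
  have dl : ∀ {a α b β}, Mx ρ e x a α b β → α ⬝ᵥ a = 1 → ∀ η, η = ζ ∨ η = ζ⁻¹ →
      In ρ (1 + (η⁻¹ - 1) • vecMulVec ((of e)ᵀ *ᵥ a) (α ᵥ* of x) + (η - 1) • vecMulVec b β) := by
    rintro a α b β m s η (rfl | rfl)
    · exact in_delta z0 (m.e1 _) (m.e2 _) (by rw [d.dot_up, s]) m.d (by simpa using sc' m 1)
    · exact in_delta (inv_ne_zero z0) (m.e1 _) (m.e2 _) (by rw [d.dot_up, s]) m.d
        (by simpa using sc' m (-1))
  have key : ∀ {a α a' α' b β}, Mx ρ e x a α b β → Mx ρ e x a' α' b β → a ≠ 0 → a' ≠ 0 → b ≠ 0 →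
      α ⬝ᵥ a' = 0 ∨ ∃ s : K, a' = s • a := fun {a α a' α' b β} m m' a0 a0' b0 => by
    refine or_iff_not_imp_left.2 fun s0 => ?_
    have p := s1 m a0 b0
    have p' := s1 m' a0' b0
    have e0 : β ⬝ᵥ b = 1 := by
      have := m.d.1
      simp only [add_dotProduct, dotProduct_add, m.e1, m.e2, d.dot_up, p] at this
      linear_combination this
    have m2 : Mx ρ e x (a' - (α ⬝ᵥ a' + 1) • a) (α' - (α' ⬝ᵥ a + 1) • α) (-(α ⬝ᵥ a') • b)
        (-(α' ⬝ᵥ a) • β) := ⟨by rw [mulVec_smul, m.hb, smul_zero],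
      by rw [smul_vecMul, m.hβ, smul_zero], (m.d.act m'.d).of_eq
        (by simp only [add_dotProduct, dotProduct_add, m.e1, m.e2, d.dot_up, e0, mulVec_sub,
              mulVec_smul]; module)
        (by simp only [add_dotProduct, dotProduct_add, m.e1, m.e2, d.dot_up, e0, sub_vecMul,
              smul_vecMul]; module)⟩
    have p2 := s1 m2 (fun z => by simpa [p] using congrArg (α ⬝ᵥ ·) z)
      (smul_ne_zero (neg_ne_zero.2 s0) b0)
    simp only [sub_dotProduct, dotProduct_sub, smul_dotProduct, dotProduct_smul, p, p',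
      smul_eq_mul] at p2
    have st : α ⬝ᵥ a' * α' ⬝ᵥ a = 1 := by linear_combination -p2
    have := idem_eq n z0 z2 (a := (of e)ᵀ *ᵥ a) (d := (of e)ᵀ *ᵥ ((α ⬝ᵥ a')⁻¹ • a' - a))
      (α := α ᵥ* of x) (h := ((α ⬝ᵥ a') • α' - α) ᵥ* of x) e0 (m.e1 _) (m.e2 _) (m.e1 _)
      (by rw [d.dot_up, p]) (by simp [d.dot_up, p, s0, -vecMul_vecMul, -mulVec_mulVec])
      (by simp [d.dot_up, p, st, -vecMul_vecMul, -mulVec_mulVec])
      (by simp [d.dot_up, p, p', st, s0, -vecMul_vecMul, -mulVec_mulVec]) (dl m p)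
      fun η hη => by
        rw [← mulVec_add, ← add_vecMul, add_sub_cancel, add_sub_cancel, mulVec_smul, smul_vecMul,
          smul_vecMulVec, vecMulVec_smul, inv_smul_smul₀ s0]
        exact dl m' p' η hη
    exact ⟨α ⬝ᵥ a', by
      rw [← sub_eq_zero.1 (d.up_inj (this.trans (mulVec_zero _).symm)), smul_inv_smul₀ s0]⟩
  obtain ⟨v, f, t, ⟨i, hi⟩, b0⟩ := r.outer d (by omega) (by omega)
  have m : Mx ρ e x (fun i => x i ⬝ᵥ v) (fun i => f ⬝ᵥ e i) (rs e x v) (rs x e f) :=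
    ⟨funext fun i => d.dot_rs v i, funext fun i => d.rs_dot f i,
      by rwa [up_eq, up_eq', sum_add_rs, sum_add_rs']⟩
  have a0 : (fun i => x i ⬝ᵥ v) ≠ 0 := fun z => hi (congrFun ((m.zero r b).1 z) i)
  generalize (fun i => x i ⬝ᵥ v) = a, (fun i => f ⬝ᵥ e i) = α at m a0
  have mk := fun k : inG ρ e x => m.conj d (d.rho_tau k) (d.rho_tau k⁻¹)
  have nk := fun k : inG ρ e x => H10.P3.rho_mulVec_ne (d.tau ρ) k a0
  have hs : ⊤ ≤ Submodule.span K (Set.range fun k : inG ρ e x => d.tau ρ k *ᵥ a) := by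
    refine ((R.irr _ fun g y hy => ?_).resolve_left fun z => nk 1
      (Submodule.span_eq_bot.1 z _ (Set.mem_range_self 1))).ge
    have : Submodule.span K (Set.range fun k : inG ρ e x => d.tau ρ k *ᵥ a) ≤
        Submodule.comap (toLin' (d.tau ρ g))
          (Submodule.span K (Set.range fun k : inG ρ e x => d.tau ρ k *ᵥ a)) :=
      Submodule.span_le.2 (by
        rintro _ ⟨k, rfl⟩
        exact Submodule.subset_span ⟨g * k, by simp⟩)
    exact this hy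
  let b0' := Module.Basis.ofSpan hs
  let B := b0'.reindex (b0'.indexEquiv (Pi.basisFun K (Fin 3)))
  have hb : ∀ i, ∃ k : inG ρ e x, d.tau ρ k *ᵥ a = B i := fun i => by
    rw [Module.Basis.reindex_apply]
    exact Module.Basis.ofSpan_subset hs ⟨_, rfl⟩
  choose l hl using hb
  have du : ∀ i j, (α ᵥ* d.tau ρ (l i)⁻¹) ⬝ᵥ B j = if i = j then 1 else 0 := fun i j => by
    split_ifs with hij
    · rw [← hij, ← hl]; exact s1 (mk _) (nk _) b0
    · rw [← hl]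
      refine (key (mk _) (mk _) (nk _) (nk _) b0).resolve_right fun ⟨s, hs⟩ => ?_
      rw [hl, hl] at hs
      simpa [Finsupp.single_apply, hij] using congrArg (B.repr · j) hs
  refine d.monB (R.mon_of_lines' du fun w g ⟨_, _, _, k, hk⟩ i => ?_)
  have e1 : B i - (g ⬝ᵥ B i) • w = d.tau ρ (k * l i) *ᵥ a := by
    rw [map_mul, ← mulVec_mulVec, hl, hk, sub_mulVec, one_mulVec, H10.P3.vv_mulVec]
  rw [e1]
  by_contra hc
  push Not at hc
  refine nk (k * l i) ((expand3 du _).trans (Finset.sum_eq_zero fun j _ => ?_))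
  rw [(key (mk (l j)) (mk _) (nk _) (nk _) b0).resolve_right fun ⟨s, hs⟩ => hc j s (hl j ▸ hs),
    zero_smul]

end Cfsg.Agent.D5
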