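import Cfsg.Agent.DIM5.RTri
import Cfsg.Agent.DIM5.RFr

/-!
Monomial triangles of reflections and the pair rule for frames with a big root of unity.
-/

set_option autoImplicit false

open Matrix

namespace Cfsg.Agent.D5

variable {K : Type*} [Field K] {Γ : Type*} [Group Γ] {ρ : Γ →* M5 K} {u v w f g h : V5 K}

section

variable {k : ℕ} {e x : Fin k → V5 K} {i j : Fin k} {a b a' b' : K}

/-- A monomial reflection swapping the lines `i`, `j`. -/
def SP (e x : Fin k → V5 K) (i j : Fin k) (a b : K) (v f : V5 K) : Prop :=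
  a ≠ 0 ∧ b ≠ 0 ∧ v = a • e i + b • e j ∧ f = a⁻¹ • x i + b⁻¹ • x j

/-- A diagonal reflection. -/
def DP (e x : Fin k → V5 K) (i : Fin k) (v f : V5 K) : Prop :=
  ∃ a : K, a ≠ 0 ∧ v = a • e i ∧ f = (2 * a⁻¹) • x i

theorem SP.symm (s : SP e x i j a b v f) : SP e x j i b a v f :=
  ⟨s.2.1, s.1, by rw [s.2.2.1, add_comm], by rw [s.2.2.2, add_comm]⟩

theorem DP.pp (d : Du e x) (s : DP e x i v f) : pp e x v f i = 2 := by
  obtain ⟨a, ha, rfl, rfl⟩ := s
  simp only [D5.pp, dotProduct_smul, smul_dotProduct, d.eq, smul_eq_mul]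
  field_simp

theorem SP.pp (d : Du e x) (hij : i ≠ j) (s : SP e x i j a b v f) : pp e x v f i = 1 := by
  obtain ⟨ha, hb, rfl, rfl⟩ := s
  simp [D5.pp, d.eq, d.ne hij, d.ne hij.symm, ha]

theorem SP.zr (d : Du e x) (s : SP e x i j a b v f) {l : Fin k} (h1 : l ≠ i) (h2 : l ≠ j) :
    Zr e x v f l := by
  obtain ⟨ha, hb, rfl, rfl⟩ := s
  simp [Zr, d.ne h1, d.ne h1.symm, d.ne h2, d.ne h2.symm]

theorem DP.zr (d : Du e x) (s : DP e x i v f) (h : j ≠ i) : Zr e x v f j := by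
  obtain ⟨a, ha, rfl, rfl⟩ := s
  simp [Zr, d.ne h, d.ne h.symm]

theorem Zr.pp (z : Zr e x v f i) : pp e x v f i = 0 := by simp [D5.pp, z.1]

theorem Mon.cases (d : Du e x) (m : Mon e x v f) (hij : i ≠ j) :
    (∃ a b, SP e x i j a b v f) ∨ (Zr e x v f i ∧ Zr e x v f j) ∨
      (Zr e x v f j ∧ (pp e x v f i = 1 ∨ DP e x i v f)) ∨
      (Zr e x v f i ∧ (pp e x v f j = 1 ∨ DP e x j v f)) := by
  rcases m with ⟨s, t, a, b, hst, m⟩ | ⟨s, m⟩
  · replace m : SP e x s t a b v f := m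
    have p1 := m.pp d hst
    have p2 := m.symm.pp d hst.symm
    by_cases h1 : i = s
    · subst h1
      by_cases h2 : j = t
      · subst h2
        exact .inl ⟨a, b, m⟩
      · exact .inr (.inr (.inl ⟨m.zr d hij.symm h2, .inl p1⟩))
    by_cases h3 : i = t
    · subst h3
      by_cases h2 : j = s
      · subst h2
        exact .inl ⟨b, a, m.symm⟩
      · exact .inr (.inr (.inl ⟨m.zr d h2 hij.symm, .inl p2⟩))
    by_cases h2 : j = s
    · exact .inr (.inr (.inr ⟨m.zr d h1 h3, .inl (h2 ▸ p1)⟩))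
    by_cases h4 : j = t
    · exact .inr (.inr (.inr ⟨m.zr d h1 h3, .inl (h4 ▸ p2)⟩))
    · exact .inr (.inl ⟨m.zr d h1 h3, m.zr d h2 h4⟩)
  · replace m : DP e x s v f := m
    by_cases h1 : i = s
    · subst h1
      exact .inr (.inr (.inl ⟨m.zr d hij.symm, .inr m⟩))
    by_cases h2 : j = s
    · subst h2
      exact .inr (.inr (.inr ⟨m.zr d hij, .inr m⟩))
    · exact .inr (.inl ⟨m.zr d h1, m.zr d h2⟩)

theorem SP.lam_zr (s : SP e x i j a b v f) (z : Zr e x w g j) :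
    lam v f w g = D5.pp e x w g i := by
  obtain ⟨ha, hb, rfl, rfl⟩ := s
  simp only [lam, D5.pp, add_dotProduct, dotProduct_add, dotProduct_smul, smul_dotProduct, z.1,
    z.2, smul_eq_mul]
  field_simp
  ring

theorem SP.same (d : Du e x) (hij : i ≠ j) (s : SP e x i j a b v f) (m : Mon e x w g)
    (h0 : lam v f w g ≠ 0) (h1 : lam v f w g ≠ 1) (h2 : lam v f w g ≠ 2) :
    ∃ a' b', SP e x i j a' b' w g := by
  rcases m.cases d hij with m | ⟨z, z'⟩ | ⟨z, p | p⟩ | ⟨z, p | p⟩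
  · exact m
  · exact absurd ((s.lam_zr z').trans z.pp) h0
  · exact absurd ((s.lam_zr z).trans p) h1
  · exact absurd ((s.lam_zr z).trans (p.pp d)) h2
  · exact absurd ((s.symm.lam_zr z).trans p) h1
  · exact absurd ((s.symm.lam_zr z).trans (p.pp d)) h2

theorem SP.dot (d : Du e x) (hij : i ≠ j) (s : SP e x i j a b v f) (t : SP e x i j a' b' w g) :
    f ⬝ᵥ w = a' / a + b' / b := by
  obtain ⟨ha, hb, rfl, rfl⟩ := s
  obtain ⟨ha', hb', rfl, rfl⟩ := t
  simp [d.eq, d.ne hij, d.ne hij.symm, div_eq_mul_inv]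

theorem SP.ns_iff (d : Du e x) (hij : i ≠ j) (s : SP e x i j a b v f) (t : SP e x i j a' b' w g) :
    NS v f w g u h ↔ (a' * b) ^ 2 ≠ (a * b') ^ 2 ∧ D5.pp e x u h i ≠ D5.pp e x u h j := by
  have k : (f ⬝ᵥ w) * (g ⬝ᵥ u) * (h ⬝ᵥ v) - (g ⬝ᵥ v) * (h ⬝ᵥ w) * (f ⬝ᵥ u) = (a * b * a' * b')⁻¹ *
      (((a * b') ^ 2 - (a' * b) ^ 2) * (D5.pp e x u h i - D5.pp e x u h j)) := by
    rw [s.dot d hij t, t.dot d hij s]
    obtain ⟨ha, hb, rfl, rfl⟩ := s
    obtain ⟨ha', hb', rfl, rfl⟩ := t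
    simp only [D5.pp, add_dotProduct, dotProduct_add, dotProduct_smul, smul_dotProduct, smul_eq_mul]
    field_simp
    ring
  rw [NS, ← sub_ne_zero, k]
  simp [s.1, s.2.1, t.1, t.2.1, sub_eq_zero, eq_comm (a := (a * b') ^ 2)]

theorem Mon.pair (d : Du e x) (t : Tame ρ) (a : D ρ v f) (b : D ρ w g) (m : Mon e x v f)
    (m' : Mon e x w g) (n : NS v f w g u h) (h1 : lam v f w g ≠ 1) (h2 : lam v f w g ≠ 2) :
    ∃ i j a b a' b', i ≠ j ∧ SP e x i j a b v f ∧ SP e x i j a' b' w g := by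
  have h0 : lam v f w g ≠ 0 := mul_ne_zero (n.ne t a b).1 (n.ne t a b).2
  rcases id m with ⟨i, j, a, b, hij, s⟩ | ⟨i, s⟩
  · obtain ⟨a', b', s'⟩ := SP.same d hij s m' h0 h1 h2
    exact ⟨i, j, a, b, a', b', hij, s, s'⟩
  rcases id m' with ⟨i, j, a', b', hij, s'⟩ | ⟨j, s'⟩
  · rw [lam_comm] at h0 h1 h2
    obtain ⟨a, b, s⟩ := SP.same d hij s' m h0 h1 h2
    exact ⟨i, j, a, b, a', b', hij, s, s'⟩
  obtain ⟨a, ha, rfl, rfl⟩ := s
  obtain ⟨b, hb, rfl, rfl⟩ := s'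
  by_cases hij : i = j
  · subst hij
    refine absurd ?_ n
    simp only [dotProduct_smul, smul_dotProduct, d.eq, smul_eq_mul]
    field_simp
  · simp [lam, d.ne hij] at h0

theorem SP.sw (s : SP e x i j a b v f) (c : D ρ v f) : Sw ρ e x i j (-(b / a)) := by
  obtain ⟨ha, hb, rfl, rfl⟩ := s
  refine ⟨by simp [ha, hb], (c.smul' (inv_mul_cancel₀ ha)).of_eq ?_ ?_⟩ <;>
    match_scalars <;> field_simp

end

variable [IsAlgClosed K] [Finite Γ]

theorem RH.pair_big (r : RH ρ) {k : ℕ} {e x : Fin k → V5 K} {θ : K} (F : Fr ρ e x θ)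
    (h3 : θ ^ 3 ≠ 1) (h4 : θ ^ 4 ≠ 1) (a : D ρ v f) {i j : Fin k} (hij : i ≠ j) :
    pp e x v f i = pp e x v f j ∨ (pp e x v f i = 1 ∧ Zr e x v f j) ∨
      (pp e x v f j = 1 ∧ Zr e x v f i) ∨ Mon e x v f := by
  by_cases hp : pp e x v f i = pp e x v f j
  · exact .inl hp
  right
  have θ0 := F.ne hij
  have θ1 : θ - 1 ≠ 0 := fun e => h3 (by linear_combination (θ ^ 2 + θ + 1) * e)
  have θ2 : 1 + θ ≠ 0 := fun e => h4 (by linear_combination (θ - 1) * (θ ^ 2 + 1) * e)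
  have s1 : SP e x i j 1 (-1) (e i - (1 : K) • e j) (x i - (1 : K)⁻¹ • x j) :=
    ⟨one_ne_zero, by simp, by module, by simp [sub_eq_add_neg]⟩
  have s2 : SP e x i j 1 (-θ) (e i - θ • e j) (x i - θ⁻¹ • x j) :=
    ⟨one_ne_zero, by simp [θ0], by module, by simp [sub_eq_add_neg]⟩
  have d1 := s1.dot F.du hij s2
  have d2 := s2.dot F.du hij s1
  have n : NS _ _ _ _ v f := (s1.ns_iff F.du hij s2).2
    ⟨fun e => h4 (by linear_combination (-θ ^ 2 - 1) * e), hp⟩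
  have l1 : lam (e i - (1 : K) • e j) (x i - (1 : K)⁻¹ • x j) (e i - θ • e j)
      (x i - θ⁻¹ • x j) ≠ 1 := fun e => h3 (by
    rw [lam, d1, d2] at e
    field_simp at e
    linear_combination (θ - 1) * e)
  have l2 : lam (e i - (1 : K) • e j) (x i - (1 : K)⁻¹ • x j) (e i - θ • e j)
      (x i - θ⁻¹ • x j) ≠ 2 := fun e => h4 (by
    rw [lam, d1, d2] at e
    field_simp at e
    linear_combination (θ ^ 2 - 1) * e)
  obtain ⟨e', x', d, -, m1, m2, m3⟩ := (r.tri (F.one i j hij).2 (F.th i j hij).2 a n).resolve_right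
    fun h => h.1.elim l1 l2
  have key : ∀ (s t : Fin 3) (a b b' : K), s ≠ t →
      SP e' x' s t a b (e i - (1 : K) • e j) (x i - (1 : K)⁻¹ • x j) →
      SP e' x' s t a b' (e i - θ • e j) (x i - θ⁻¹ • x j) → b' = θ * b →
      (pp e x v f i = 1 ∧ Zr e x v f j) ∨ (pp e x v f j = 1 ∧ Zr e x v f i) ∨ Mon e x v f := by
    rintro s t a b _ hst ⟨ha, hb, q1, q2⟩ ⟨-, -, q3, q4⟩ rfl
    have e2 : e j = (-b) • e' t :=
      smul_right_injective _ θ1 (by linear_combination (norm := module) q1 - q3)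
    have e1 : e i = a • e' s := by rw [e2] at q1; linear_combination (norm := module) q1
    have x2 : x j = (-b⁻¹) • x' t := smul_right_injective _
      (show θ⁻¹ - 1 ≠ 0 from fun e => θ1 (by field_simp at e; linear_combination -e)) (by
        rw [mul_inv] at q4
        rw [inv_one] at q2
        linear_combination (norm := module) q2 - q4)
    have x1 : x i = a⁻¹ • x' s := by
      rw [x2, inv_one] at q2; linear_combination (norm := module) q2
    have p1 : pp e x v f i = pp e' x' v f s := by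
      simp only [pp, e1, x1, dotProduct_smul, smul_dotProduct, smul_eq_mul]; field_simp
    have p2 : pp e x v f j = pp e' x' v f t := by
      simp only [pp, e2, x2, dotProduct_smul, smul_dotProduct, smul_eq_mul]; field_simp
    have z1 : Zr e' x' v f s → Zr e x v f i := fun z => by simp [Zr, e1, x1, z.1, z.2]
    have z2 : Zr e' x' v f t → Zr e x v f j := fun z => by simp [Zr, e2, x2, z.1, z.2]
    rw [p1, p2] at hp ⊢
    rcases m3.cases d hst with ⟨_, _, m⟩ | ⟨z, z'⟩ | ⟨z, p | ⟨c, hc, q, q'⟩⟩ | ⟨z, p | ⟨c, hc, q, q'⟩⟩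
    · exact absurd ((m.pp d hst).trans (m.symm.pp d hst.symm).symm) hp
    · exact absurd (z.pp.trans z'.pp.symm) hp
    · exact .inl ⟨p, z2 z⟩
    · refine .inr (.inr (.inr ⟨i, c / a, by simp [hc, ha], ?_, ?_⟩))
      · rw [q, e1]; match_scalars; field_simp
      · rw [q', x1]; match_scalars; field_simp
    · exact .inr (.inl ⟨p, z1 z⟩)
    · refine .inr (.inr (.inr ⟨j, -(c / b), by simp [hc, hb], ?_, ?_⟩))
      · rw [q, e2]; match_scalars; field_simp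
      · rw [q', x2]; match_scalars; field_simp
  obtain ⟨s, t, a, b, a', b', hst, t1, t2⟩ :=
    m1.pair d r.toTame (F.one i j hij).2 (F.th i j hij).2 m2 n l1 l2
  rw [t1.dot d hst t2] at d1
  rw [t2.dot d hst t1] at d2
  obtain ⟨ha, hb, ha', hb'⟩ : a ≠ 0 ∧ b ≠ 0 ∧ a' ≠ 0 ∧ b' ≠ 0 := ⟨t1.1, t1.2.1, t2.1, t2.2.1⟩
  obtain ⟨α, rfl⟩ : ∃ α, a' = α * a := ⟨a' / a, by field_simp⟩
  obtain ⟨β, rfl⟩ : ∃ β, b' = β * b := ⟨b' / b, by field_simp⟩
  have hα := left_ne_zero_of_mul ha'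
  have hβ := left_ne_zero_of_mul hb'
  field_simp at d1 d2
  have k : α * β = θ := mul_left_cancel₀ θ2 (by linear_combination θ * d1 - d2)
  rcases mul_eq_zero.1 (show (α - 1) * (β - 1) = 0 by linear_combination k - d1) with q | q
  · obtain rfl : α = 1 := by linear_combination q
    exact key s t a b _ hst t1 (by simpa using t2) (show β * b = _ by rw [← k, one_mul])
  · obtain rfl : β = 1 := by linear_combination q
    exact key t s b a _ hst.symm t1.symm (by simpa using t2.symm)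
      (show α * a = _ by rw [← k, mul_one])

theorem RH.ns_one (r : RH ρ) (a : D ρ v f) (b : D ρ w g) (c : D ρ u h) (n : NS v f w g u h)
    (h1 : lam v f w g = 1) (h2 : lam u h v f ≠ 1) (h3 : lam u h v f ≠ 2) : lam w g u h = 1 := by
  obtain ⟨e, x, d, -, m1, m2, m3⟩ := (r.tri a b c n).resolve_right fun h => h.2.2.elim h2 h3
  obtain ⟨i, j, _, _, _, _, hij, s, t⟩ := m3.pair d r.toTame c a m1 n.rot.rot h2 h3
  have hp := ((s.ns_iff d hij t).1 n.rot.rot).2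
  rw [lam_comm]
  rcases m2.cases d hij with ⟨_, _, m⟩ | ⟨z, z'⟩ | ⟨z, -⟩ | ⟨z, -⟩
  · exact absurd ((m.pp d hij).trans (m.symm.pp d hij.symm).symm) hp
  · exact absurd (z.pp.trans z'.pp.symm) hp
  · rw [s.lam_zr z, ← t.lam_zr z, h1]
  · rw [s.symm.lam_zr z, ← t.symm.lam_zr z, h1]

theorem RH.big_of (r : RH ρ) (a : D ρ v f) (b : D ρ w g) (c : D ρ u h) (n : NS v f w g u h)
    (h1 : lam v f w g ≠ 1) (h2 : lam v f w g ≠ 2) :
    ∃ (e x : Fin 3 → V5 K) (θ : K), Fr ρ e x θ ∧ θ ^ 3 ≠ 1 ∧ θ ^ 4 ≠ 1 := by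
  obtain ⟨e, x, d, sw, m1, m2, -⟩ := (r.tri a b c n).resolve_right fun h => h.1.elim h1 h2
  obtain ⟨i, j, α, β, α', β', hij, s, t⟩ := m1.pair d r.toTame a b m2 n h1 h2
  obtain ⟨l, hjl, hil⟩ := (by decide : ∀ i j : Fin 3, ∃ l, j ≠ l ∧ i ≠ l) i j
  obtain ⟨φ, hφ⟩ := sw i l hil
  have hp := ((s.ns_iff d hij t).1 n).1
  rw [lam, s.dot d hij t, t.dot d hij s] at h1 h2
  obtain ⟨ha, hb, ha', hb'⟩ : α ≠ 0 ∧ β ≠ 0 ∧ α' ≠ 0 ∧ β' ≠ 0 := ⟨s.1, s.2.1, t.1, t.2.1⟩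
  obtain ⟨θ, rfl⟩ : ∃ θ, β' = θ * β * α' / α := ⟨β' * α / (β * α'), by field_simp⟩
  have θ0 : θ ≠ 0 := by rintro rfl; simp at hb'
  have θ2 : θ ^ 2 - 1 ≠ 0 := fun e => hp (by field_simp; linear_combination -e)
  refine ⟨_, _, θ, by
    convert Fr.std d hij hjl hil (s.sw a) (t.sw b) hφ using 1
    field_simp, fun e => h1 ?_, fun e => h2 ?_⟩
  · field_simp
    exact mul_left_cancel₀ θ2 (by linear_combination (θ + 1) * e)
  · field_simp
    exact mul_left_cancel₀ θ2 (by linear_combination e)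

end Cfsg.Agent.D5
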