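import Cfsg.Agent.DIM5.R3b
import Cfsg.Agent.DIM5.RFr

/-!
The reflection group induced on a three-dimensional block.
-/

set_option autoImplicit false

open Matrix

namespace Cfsg.Agent.D5

open H10.P3 (M3 V3)

variable {K : Type*} [Field K] {Γ : Type*} [Group Γ] {ρ : Γ →* M5 K} {u v w f g h : V5 K}

section
variable {e x : Fin 3 → V5 K}

/-- The matrix acting as `M` on the block and trivially on its complement. -/
def blk3 (e x : Fin 3 → V5 K) (M : M3 K) : M5 K := 1 + (of e)ᵀ * (M - 1) * of x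

theorem Du.mul3 (d : Du e x) : (of x) * (of e)ᵀ = (1 : M3 K) := by
  ext i j; rw [one_apply, ← d i j]; rfl

theorem Du.blk_mul (d : Du e x) (M N : M3 K) : blk3 e x M * blk3 e x N = blk3 e x (M * N) := by
  have : (of e)ᵀ * (M - 1) * of x * ((of e)ᵀ * (N - 1) * of x) =
      (of e)ᵀ * ((M - 1) * (N - 1)) * of x := by
    simp only [Matrix.mul_assoc]
    rw [← Matrix.mul_assoc (of x), d.mul3, Matrix.one_mul]
  rw [blk3, blk3, blk3, add_mul, mul_add, mul_add, this,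
    show M * N - 1 = (N - 1) + (M - 1) + (M - 1) * (N - 1) by noncomm_ring]
  simp only [Matrix.mul_add, Matrix.add_mul, one_mul, mul_one]
  abel

theorem Du.blk_res (d : Du e x) (M : M3 K) : of x * blk3 e x M * (of e)ᵀ = M := by
  rw [blk3, Matrix.mul_add, Matrix.add_mul, Matrix.mul_one, d.mul3]
  simp only [← Matrix.mul_assoc, d.mul3, Matrix.one_mul]
  rw [Matrix.mul_assoc, d.mul3]
  simp

theorem blk_vv (e x : Fin 3 → V5 K) (a α : V3 K) :
    blk3 e x (1 + vecMulVec a α) = 1 + vecMulVec ((of e)ᵀ *ᵥ a) (α ᵥ* of x) := by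
  rw [blk3, add_sub_cancel_left, mul_vecMulVec, vecMulVec_mul]

theorem blk_vv' (e x : Fin 3 → V5 K) (a α : V3 K) :
    blk3 e x (1 - vecMulVec a α) = 1 - vecMulVec ((of e)ᵀ *ᵥ a) (α ᵥ* of x) := by
  rw [sub_eq_add_neg, ← neg_vecMulVec, blk_vv, mulVec_neg, neg_vecMulVec, sub_eq_add_neg]

theorem Du.dot_up (d : Du e x) (a α : V3 K) : (α ᵥ* of x) ⬝ᵥ ((of e)ᵀ *ᵥ a) = α ⬝ᵥ a := by
  rw [← dotProduct_mulVec, mulVec_mulVec, d.mul3, one_mulVec]

theorem Du.up_inj (d : Du e x) {a b : V3 K} (h : (of e)ᵀ *ᵥ a = (of e)ᵀ *ᵥ b) : a = b := by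
  simpa [d.mul3] using congrArg (of x *ᵥ ·) h

theorem Du.up_inj' (d : Du e x) {a b : V3 K} (h : a ᵥ* of x = b ᵥ* of x) : a = b := by
  simpa [d.mul3] using congrArg (· ᵥ* (of e)ᵀ) h

theorem up_eq (e : Fin 3 → V5 K) (a : V3 K) : (of e)ᵀ *ᵥ a = ∑ i, a i • e i := by
  ext j; simp [mulVec, dotProduct, mul_comm]

theorem up_eq' (x : Fin 3 → V5 K) (a : V3 K) : a ᵥ* of x = ∑ i, a i • x i := by
  ext j; simp [vecMul, dotProduct]

theorem inn_up : Inn e x v f ↔ ∃ a α : V3 K, v = (of e)ᵀ *ᵥ a ∧ f = α ᵥ* of x := by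
  simp only [Inn, Submodule.mem_span_range_iff_exists_fun, up_eq, up_eq', eq_comm (a := v),
    eq_comm (a := f), exists_and_left, exists_and_right]

/-- The group generated by the reflections of the block. -/
def inG (ρ : Γ →* M5 K) (e x : Fin 3 → V5 K) : Subgroup Γ :=
  Subgroup.closure {k | ∃ v f, D ρ v f ∧ Inn e x v f ∧ ρ k = 1 - vecMulVec v f}

theorem Du.inG_blk (d : Du e x) {k : Γ} (hk : k ∈ inG ρ e x) :
    ρ k = blk3 e x (of x * ρ k * (of e)ᵀ) := by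
  suffices H : ∃ M, ρ k = blk3 e x M by
    obtain ⟨M, hM⟩ := H
    rw [hM, d.blk_res]
  induction hk using Subgroup.closure_induction'' with
  | mem k hk =>
    obtain ⟨v, f, -, i, hk⟩ := hk
    obtain ⟨a, α, rfl, rfl⟩ := inn_up.1 i
    exact ⟨_, hk.trans (blk_vv' e x a α).symm⟩
  | inv_mem k hk =>
    obtain ⟨v, f, t, i, hk⟩ := hk
    obtain ⟨a, α, rfl, rfl⟩ := inn_up.1 i
    exact ⟨_, (rho_inv_eq (by rw [hk, refl_sq t.1])).trans (blk_vv' e x a α).symm⟩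
  | one => exact ⟨1, by simp [blk3]⟩
  | mul a b _ _ ha hb =>
    obtain ⟨M, hM⟩ := ha
    obtain ⟨N, hN⟩ := hb
    exact ⟨M * N, by rw [map_mul, hM, hN, d.blk_mul]⟩

/-- The representation on the block. -/
def Du.tau (d : Du e x) (ρ : Γ →* M5 K) : inG ρ e x →* M3 K where
  toFun k := of x * ρ k * (of e)ᵀ
  map_one' := by simp [d.mul3]
  map_mul' a b := by
    rw [Subgroup.coe_mul, map_mul]
    conv_lhs => rw [d.inG_blk a.2, d.inG_blk b.2, d.blk_mul, d.blk_res]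

theorem Du.rho_tau (d : Du e x) (k : inG ρ e x) : ρ k = blk3 e x (d.tau ρ k) := d.inG_blk k.2

theorem Du.tau_refl (d : Du e x) {k : inG ρ e x} {a α : V3 K}
    (hk : ρ k = 1 - vecMulVec ((of e)ᵀ *ᵥ a) (α ᵥ* of x)) : d.tau ρ k = 1 - vecMulVec a α := by
  change of x * ρ k * (of e)ᵀ = _
  rw [hk, ← blk_vv', d.blk_res]

theorem Du.d3_iff (d : Du e x) {a α : V3 K} :
    D3 (d.tau ρ) a α ↔ D ρ ((of e)ᵀ *ᵥ a) (α ᵥ* of x) := by
  refine ⟨fun ⟨h0, h1, h2, k, hk⟩ => ⟨by rw [d.dot_up, h0], fun z => h1 (d.up_inj (by simpa using z)),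
    fun z => h2 (d.up_inj' (by simpa using z)), k, by rw [d.rho_tau, hk, blk_vv']⟩, fun t => ?_⟩
  obtain ⟨h0, h1, h2, k, hk⟩ := id t
  exact ⟨by rw [← d.dot_up, h0], by rintro rfl; simp at h1, by rintro rfl; simp at h2,
    ⟨k, Subgroup.subset_closure ⟨_, _, t, inn_up.2 ⟨_, _, rfl, rfl⟩, hk⟩⟩, d.tau_refl hk⟩

theorem RH.r3 (r : RH ρ) (b : GB ρ e x) : R3 (b.du.tau ρ) := by
  have d := b.du
  obtain ⟨v, f, hv, ns, hd⟩ := b.tri
  choose a α ha hα using fun i => inn_up.1 (hv i).2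
  have t : ∀ i, D3 (d.tau ρ) (a i) (α i) := fun i => d.d3_iff.2 (ha i ▸ hα i ▸ (hv i).1)
  have p : ∀ i j, f i ⬝ᵥ v j = α i ⬝ᵥ a j := fun i j => by rw [ha, hα, d.dot_up]
  refine ⟨r.lf, fun H hH => eq_top_iff.2 fun ⟨k, hk⟩ _ => ?_, fun W hW => ?_, fun h1 h2 z => ?_,
    fun h1 h2 => d.up_inj' (r.ctr (d.d3_iff.1 h1) (d.d3_iff.1 h2)),
    fun h1 h2 => d.up_inj (r.axs (d.d3_iff.1 h1) (d.d3_iff.1 h2)), fun h2 k y φ h0 hk => ?_,
    _, _, _, _, _, _, t 0, t 1, t 2, by simpa only [NS, p] using ns⟩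
  · induction hk using Subgroup.closure_induction with
    | mem k hk =>
      obtain ⟨v, f, s, i, hk⟩ := hk
      obtain ⟨a, α, rfl, rfl⟩ := inn_up.1 i
      have s' := d.d3_iff.2 s
      exact hH _ a α s'.1 s'.2.1 s'.2.2.1 (d.tau_refl hk)
    | one => exact H.one_mem
    | mul _ _ _ _ h1 h2 => exact H.mul_mem (h1 trivial) (h2 trivial)
    | inv _ _ h1 => exact H.inv_mem (h1 trivial)
  · have hd' : (of α * (of a)ᵀ).det ≠ 0 := by
      convert hd using 2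
      ext i j; rw [of_apply, p]; rfl
    rw [det_mul] at hd'
    have k : ∀ i, ∀ y ∈ W, α i ⬝ᵥ y ≠ 0 → a i ∈ W := fun i y hy e => by
      obtain ⟨-, -, -, k, hk⟩ := t i
      have := W.sub_mem hy (hW k y hy)
      rw [hk, sub_mulVec, one_mulVec, H10.P3.vv_mulVec, sub_sub_cancel] at this
      exact (W.smul_mem_iff e).1 this
    refine or_iff_not_imp_left.2 fun h0 => eq_top_iff.2 fun z _ => ?_
    obtain ⟨y, hy, y0⟩ := W.ne_bot_iff.1 h0
    obtain ⟨i, hi⟩ := Function.ne_iff.1 (mt (eq_zero_of_mulVec_eq_zero (left_ne_zero_of_mul hd')) y0)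
    have h1 := k i y hy hi
    have n1 := ns.ne r.toTame (hv 0).1 (hv 1).1
    have n2 := ns.rot.ne r.toTame (hv 1).1 (hv 2).1
    have n3 := ns.rot.rot.ne r.toTame (hv 2).1 (hv 0).1
    simp only [p] at n1 n2 n3
    have h2 : a 0 ∈ W := by
      fin_cases i
      exacts [h1, k 0 _ h1 n1.1, k 0 _ h1 n3.2]
    have h3 : ∀ j, a j ∈ W := fun j => by
      fin_cases j
      exacts [h2, k 1 _ h2 n1.2, k 2 _ h2 n3.1]
    obtain ⟨c, rfl⟩ := mulVec_surjective_iff_isUnit.2 ((isUnit_iff_isUnit_det _).2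
      (right_ne_zero_of_mul hd').isUnit) z
    rw [show (of a)ᵀ *ᵥ c = ∑ i, c i • a i by ext j; simp [mulVec, dotProduct, mul_comm]]
    exact W.sum_mem fun j _ => W.smul_mem _ (h3 j)
  · rw [← d.dot_up] at z ⊢
    exact r.zero (d.d3_iff.1 h1) (d.d3_iff.1 h2) z
  · by_contra hc
    push Not at hc
    exact r.notv h2 _ _ ⟨⟨by rw [d.dot_up, h0], k, by rw [d.rho_tau, hk, blk_vv]⟩,
      fun z => hc.1 (d.up_inj (by simpa using z)), fun z => hc.2 (d.up_inj' (by simpa using z))⟩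

theorem Du.monB (d : Du e x) (m : Mon3 (d.tau ρ)) : MonB ρ e x := by
  obtain ⟨e', x', d', s, m⟩ := m
  refine ⟨fun i => (of e)ᵀ *ᵥ e' i, fun i => x' i ᵥ* of x, fun i j => by rw [d.dot_up, d'],
    fun i j hij => ?_, fun v f t hi => ?_⟩
  · obtain ⟨φ, h0, t⟩ := s i j hij
    exact ⟨φ, h0, by
      simpa only [mulVec_sub, mulVec_smul, sub_vecMul, smul_vecMul] using d.d3_iff.1 t⟩
  · obtain ⟨a, α, rfl, rfl⟩ := inn_up.1 hi
    clear hi
    rcases m _ _ (d.d3_iff.2 t) with ⟨i, j, a, b, h1, h2, h3, rfl, rfl⟩ | ⟨i, a, h1, rfl, rfl⟩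
    · exact Or.inl ⟨i, j, a, b, h1, h2, h3, by simp only [mulVec_add, mulVec_smul],
        by simp only [add_vecMul, smul_vecMul]⟩
    · exact Or.inr ⟨i, a, h1, mulVec_smul _ _ _, smul_vecMul _ _ _⟩

end

variable [IsAlgClosed K] [Finite Γ] {e x : Fin 3 → V5 K}

theorem RH.mono (r : RH ρ) (b : GB ρ e x) : MonB ρ e x ∨ L7B ρ e x ∨ CA ρ e x := by
  have d := b.du
  rcases (r.r3 b).cases with m | l | ⟨h2, h3, ζ, hζ, k, hk⟩
  · exact Or.inl (d.monB m)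
  · refine Or.inr (Or.inl fun v f w g t i t' i' => ?_)
    obtain ⟨a, α, rfl, rfl⟩ := inn_up.1 i
    obtain ⟨a', α', rfl, rfl⟩ := inn_up.1 i'
    simp only [lam, d.dot_up]
    refine (l _ _ _ _ (d.d3_iff.2 t) (d.d3_iff.2 t')).imp_right (Or.imp_right (Or.imp_right
      fun z => ?_))
    rw [← vecMulVec_mul, ← mul_vecMulVec, z, mul_vecMulVec, vecMulVec_mul]
  · refine Or.inr (Or.inr ⟨h2, h3, ζ, hζ, k, ?_⟩)
    rw [d.rho_tau, hk, blk3, show ζ • (1 : M3 K) - 1 = (ζ - 1) • 1 by rw [sub_smul, one_smul],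
      Matrix.mul_smul, Matrix.smul_mul, Matrix.mul_one]
    congr 2

end Cfsg.Agent.D5
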