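import Cfsg.Agent.DIM5.RBlk
import Cfsg.Agent.DIM5.RMono
import Cfsg.Agent.DIM5.RA

/-!
Non-symmetric triangles.
-/

set_option autoImplicit false

open Matrix

namespace Cfsg.Agent.D5

variable {K : Type*} [Field K] {Γ : Type*} [Group Γ] {ρ : Γ →* M5 K} {u v w f g h : V5 K}
variable [IsAlgClosed K] [Finite Γ]

theorem RH.tri (r : RH ρ) (a : D ρ v f) (b : D ρ w g) (c : D ρ u h) (n : NS v f w g u h) :
    (∃ e x : Fin 3 → V5 K, Du e x ∧ (∀ i j, i ≠ j → ∃ φ, Sw ρ e x i j φ) ∧ Mon e x v f ∧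
      Mon e x w g ∧ Mon e x u h) ∨ ((lam v f w g = 1 ∨ lam v f w g = 2) ∧
      (lam w g u h = 1 ∨ lam w g u h = 2) ∧ (lam u h v f = 1 ∨ lam u h v f = 2)) := by
  obtain ⟨e, x, B, i1, i2, i3⟩ := r.blk a b c n
  rcases (r.mono B).imp_right (·.imp_right (r.caseA B)) with ⟨e', x', d, s, m⟩ | l |
    ⟨e', x', d, s, m⟩
  · exact Or.inl ⟨e', x', d, s, m _ _ a i1, m _ _ b i2, m _ _ c i3⟩
  swap
  · exact Or.inl ⟨e', x', d, s, m _ _ a i1, m _ _ b i2, m _ _ c i3⟩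
  have k : ∀ {v f w g u h}, D ρ v f → Inn e x v f → D ρ w g → Inn e x w g → NS v f w g u h →
      lam v f w g = 1 ∨ lam v f w g = 2 := fun {v f w g u h} a i b j n => by
    rcases l _ _ _ _ a i b j with t | t | t | t
    · exact (mul_ne_zero (n.ne r.toTame a b).1 (n.ne r.toTame a b).2 t).elim
    · exact Or.inl t
    · exact Or.inr t
    obtain ⟨s, hs, rfl, rfl⟩ := vv_eq_vv a.2.1 a.2.2.1 t
    refine (n ?_).elim
    simp only [smul_dotProduct, dotProduct_smul, smul_eq_mul]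
    field_simp
  exact Or.inr ⟨k a i1 b i2 n, k b i2 c i3 n.rot, k c i3 a i1 n.rot.rot⟩

end Cfsg.Agent.D5
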